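import Groth.Agent.Lib.LogNCD37.Exist

/-!
The module of log differentials.
-/

set_option autoImplicit false
set_option linter.style.haveILetI false

universe u

open CategoryTheory CategoryTheory.Limits AlgebraicGeometry Opposite TopologicalSpace
open Groth.Agent.Lib.LogNCD37.Basic Groth.Agent.Lib.LogNCD37.Exist
open Groth.Agent.Lib.TensorMod.Dual (rs rf rs_rs rs_smul)
open Groth.Agent.Lib.ClSub.Sections (exists_kernel_ι_app_eq kernel_ι_app_injective app_kernel_ι_app)

noncomputable section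

namespace Groth.Agent.Lib.LogNCD37.Assemble

variable {X S : Scheme.{u}} {f : X ⟶ S} {Ω' : X.Modules} {r : ℕ}

/-- Evaluation of morphisms at a section. -/
def ev {M N : X.Modules} (U : X.Opens) (m : Γ(M, U)) : (M ⟶ N) →+ Γ(N, U) :=
  AddMonoidHom.mk' (fun φ => φ.app U m) fun φ ψ => by
    rw [Scheme.Modules.Hom.add_app]; rfl

theorem ev_apply {M N : X.Modules} (U : X.Opens) (m : Γ(M, U)) (φ : M ⟶ N) : ev U m φ = φ.app U m := rfl

/-- The inclusion of a factor of a finite product. -/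
def ιQ (Q : Fin r → X.Modules) (j : Fin r) : Q j ⟶ ∏ᶜ Q :=
  Pi.lift fun i => if e : j = i then eqToHom (congrArg Q e) else 0

theorem ιQ_π_self (Q : Fin r → X.Modules) (j : Fin r) : ιQ Q j ≫ Pi.π Q j = 𝟙 _ := by simp [ιQ]

theorem ιQ_π_ne (Q : Fin r → X.Modules) {i j : Fin r} (h : i ≠ j) : ιQ Q i ≫ Pi.π Q j = 0 := by simp [ιQ, h]

theorem sum_π_ιQ (Q : Fin r → X.Modules) : ∑ j, Pi.π Q j ≫ ιQ Q j = 𝟙 (∏ᶜ Q) := by
  classical
  refine Pi.hom_ext _ _ fun i => ?_
  rw [Preadditive.sum_comp, Category.id_comp, Finset.sum_eq_single i]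
  · rw [Category.assoc, ιQ_π_self, Category.comp_id]
  · intro b _ hb
    rw [Category.assoc, ιQ_π_ne Q hb, comp_zero]
  · intro hi; exact absurd (Finset.mem_univ i) hi

theorem exists_logMod [Smooth f] (d : OmegaSh.Der f Ω') (hd : OmegaSh.IsUniversal d)
    (D : Fin r → X.IdealSheafData) (hD : LogNCD.IsNCD D f) : Nonempty (LogNCD.LogMod d D) := by
  classical
  haveI := mono_η d D hd hD
  choose δ hδ using exists_delta d D hD
  let Q : Fin r → X.Modules := fun i => ClSub.quotMod (D i)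
  let M : X.Modules := P Ω' D ⊞ ∏ᶜ Q
  let φ : M ⟶ cokernel (η Ω' D) := biprod.desc (cokernel.π (η Ω' D)) (-∑ i, Pi.π Q i ≫ δ i)
  let κ := kernel.ι φ
  let ι : Ω' ⟶ kernel φ := kernel.lift φ (η Ω' D ≫ biprod.inl) (by
    rw [Category.assoc, biprod.inl_desc, cokernel.condition])
  let res : ∀ i, kernel φ ⟶ Q i := fun i => κ ≫ biprod.snd ≫ Pi.π Q i
  haveI hι : Mono ι := by
    haveI : Mono (ι ≫ κ) := by rw [kernel.lift_ι]; infer_instance
    exact mono_of_mono ι κ
  -- a section is determined by its components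
  have hdecomp : ∀ (U : X.Opens) (m : Γ(M, U)), m = (biprod.inl : _ ⟶ M).app U ((biprod.fst : M ⟶ _).app U m) +
      ∑ i, (biprod.inr : _ ⟶ M).app U ((ιQ Q i).app U ((Pi.π Q i).app U ((biprod.snd : M ⟶ _).app U m))) := by
    intro U m
    have h : 𝟙 M = biprod.fst ≫ biprod.inl + ∑ i, biprod.snd ≫ Pi.π Q i ≫ ιQ Q i ≫ biprod.inr := by
      rw [← biprod.total]
      congr 1
      conv_lhs => rw [← Category.id_comp (biprod.inr : _ ⟶ M), ← sum_π_ιQ Q, Preadditive.sum_comp, Preadditive.comp_sum]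
      simp only [Category.assoc]
    have := congrArg (ev U m) h
    rw [map_add, map_sum] at this
    simp only [ev_apply, hcomp] at this
    exact this
  have hφ : ∀ (U : X.Opens) (m : Γ(M, U)), φ.app U m = (cokernel.π (η Ω' D)).app U ((biprod.fst : M ⟶ _).app U m) -
      ∑ i, (δ i).app U ((Pi.π Q i).app U ((biprod.snd : M ⟶ _).app U m)) := by
    intro U m
    have h : φ = biprod.fst ≫ cokernel.π (η Ω' D) - ∑ i, biprod.snd ≫ Pi.π Q i ≫ δ i := by
      apply biprod.hom_ext'
      · simp [φ, Preadditive.comp_sum]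
      · simp [φ, Preadditive.comp_sum]
    have := congrArg (ev U m) h
    rw [map_sub, map_sum] at this
    simp only [ev_apply, hcomp] at this
    exact this
  have hres : ∀ (U : X.Opens) (i : Fin r) (m : Γ(kernel φ, U)),
      (res i).app U m = (Pi.π Q i).app U ((biprod.snd : M ⟶ _).app U (κ.app U m)) := fun U i m => by
    simp only [res, hcomp]
  have hκι : ∀ (U : X.Opens) (w : Γ(Ω', U)), κ.app U (ι.app U w) = (biprod.inl : _ ⟶ M).app U ((η Ω' D).app U w) :=
    fun U w => by rw [← hcomp, kernel.lift_ι, hcomp]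
  -- components of the standard elements
  have hz0 : ∀ (U : X.Opens) {A B : X.Modules} (w : Γ(A, U)), (0 : A ⟶ B).app U w = 0 := fun U A B w => by
    rw [Scheme.Modules.Hom.zero_app]; rfl
  have hfst : ∀ (U : X.Opens) (p : Γ(P Ω' D, U)), (biprod.fst : M ⟶ _).app U ((biprod.inl : _ ⟶ M).app U p) = p ∧
      (biprod.snd : M ⟶ _).app U ((biprod.inl : _ ⟶ M).app U p) = 0 := fun U p =>
    ⟨by rw [← hcomp, biprod.inl_fst]; rfl, by rw [← hcomp, biprod.inl_snd, hz0]⟩
  have hsnd : ∀ (U : X.Opens) (q : Γ(∏ᶜ Q, U)), (biprod.fst : M ⟶ _).app U ((biprod.inr : _ ⟶ M).app U q) = 0 ∧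
      (biprod.snd : M ⟶ _).app U ((biprod.inr : _ ⟶ M).app U q) = q := fun U q =>
    ⟨by rw [← hcomp, biprod.inr_fst, hz0], by rw [← hcomp, biprod.inr_snd]; rfl⟩
  refine ⟨⟨kernel φ, ι, res, hι, fun i => ?_, fun U g hg => ?_⟩⟩
  · show ι ≫ κ ≫ biprod.snd ≫ Pi.π Q i = 0
    rw [kernel.lift_ι_assoc, Category.assoc, biprod.inl_snd_assoc, zero_comp, comp_zero]
  have hz : ∀ i, ∃ z : Γ(P Ω' D, U.1), g i • z = (η Ω' D).app U.1 (d.app U.1 (g i)) :=
    fun i => exists_dlog d D U (hg i)
  choose z hz using hz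
  have hδz : ∀ i, (δ i).app U.1 (LogNCD.oneOn (D i) U.1) = (cokernel.π (η Ω' D)).app U.1 (z i) :=
    fun i => hδ i U (g i) ⟨g, hg⟩ (hg i) (z i) (hz i)
  let E : Fin r → Γ(M, U.1) := fun i => (biprod.inl : _ ⟶ M).app U.1 (z i) +
    (biprod.inr : _ ⟶ M).app U.1 ((ιQ Q i).app U.1 (LogNCD.oneOn (D i) U.1))
  have hEsnd : ∀ i j, (Pi.π Q j).app U.1 ((biprod.snd : M ⟶ _).app U.1 (E i)) =
      (ιQ Q i ≫ Pi.π Q j).app U.1 (LogNCD.oneOn (D i) U.1) := fun i j => by
    rw [map_add, (hfst _ _).2, (hsnd _ _).2, zero_add, hcomp]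
  have hEself : ∀ i, (Pi.π Q i).app U.1 ((biprod.snd : M ⟶ _).app U.1 (E i)) = LogNCD.oneOn (D i) U.1 := fun i => by
    rw [hEsnd, ιQ_π_self]; rfl
  have hEne : ∀ i j, i ≠ j → (Pi.π Q j).app U.1 ((biprod.snd : M ⟶ _).app U.1 (E i)) = 0 := fun i j h => by
    rw [hEsnd, ιQ_π_ne Q h, hz0]
  have hEfst : ∀ i, (biprod.fst : M ⟶ _).app U.1 (E i) = z i := fun i => by
    rw [map_add, (hfst _ _).1, (hsnd _ _).1, add_zero]
  have hEφ : ∀ i, φ.app U.1 (E i) = 0 := fun i => by
    rw [hφ, hEfst, Finset.sum_eq_single i (fun j _ hj => by rw [hEne i j hj.symm, map_zero])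
      (fun h => absurd (Finset.mem_univ i) h), hEself, hδz, sub_self]
  choose dl hdl using fun i => exists_kernel_ι_app_eq φ U.1 (E i) (hEφ i)
  have hκ := kernel_ι_app_injective φ U.1
  refine ⟨fun m hm => ?_, dl, fun i => ?_, ?_, fun i => ?_, fun i j h => ?_⟩
  · -- no torsion
    let Mm : Γ(M, U.1) := κ.app U.1 m
    have hMm : (∏ k, g k) • Mm = 0 := by
      rw [← happ]; exact (congrArg (κ.app U.1) hm).trans (map_zero _)
    have hp : (biprod.fst : M ⟶ _).app U.1 Mm = 0 := by
      have h1 : (∏ k, g k) • (biprod.fst : M ⟶ _).app U.1 Mm = 0 := by rw [← happ, hMm, map_zero]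
      suffices ∀ (s : Finset (Fin r)) (p : Γ(P Ω' D, U.1)), (∏ k ∈ s, g k) • p = 0 → p = 0 from
        this _ _ h1
      intro s
      induction s using Finset.induction_on with
      | empty => intro p hp; rwa [Finset.prod_empty, one_smul] at hp
      | insert k s hk ih =>
        intro p hp
        rw [Finset.prod_insert hk, mul_smul] at hp
        exact ih p ((smul_bijective D (hg k)).1 (hp.trans (smul_zero _).symm))
    have hq : ∀ i, (Pi.π Q i).app U.1 ((biprod.snd : M ⟶ _).app U.1 Mm) = 0 := by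
      choose a ha using fun i => quot_exists_smul_one (D i) U ((Pi.π Q i).app U.1 ((biprod.snd : M ⟶ _).app U.1 Mm))
      have h0 : (cokernel.π (η Ω' D)).app U.1 (∑ k, a k • z k) = 0 := by
        have := app_kernel_ι_app φ U.1 m
        rw [hφ, hp, map_zero, zero_sub, neg_eq_zero] at this
        rw [map_sum, ← this]
        refine Finset.sum_congr rfl fun k _ => ?_
        rw [happ, ← hδz, ← happ]
        exact congrArg _ (ha k)
      intro i
      refine TopCat.Presheaf.section_ext (⟨(Q i).presheaf, (Q i).isSheaf⟩ : TopCat.Sheaf AddCommGrpCat.{u} X)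
        U.1 _ _ fun x hx => ?_
      obtain ⟨V, hVU, hxV, hmem⟩ := coeff_mem d D hd hD x hx g hg z hz a h0
      show (Q i).presheaf.germ U.1 x hx _ = (Q i).presheaf.germ U.1 x hx 0
      rw [map_zero, ← ClSub.Basis.germ_map hVU hxV]
      refine (congrArg _ ?_).trans (map_zero _)
      refine (congrArg (rs (Q i) hVU) (ha i).symm).trans ?_
      refine (rs_smul (Q i) hVU (a i) (LogNCD.oneOn (D i) U.1)).trans ?_
      have hmem' : (ClSub.toSubscheme (D i)).app V.1 (rf hVU (a i) : Γ(X, V.1)) = 0 := by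
        show (D i).subschemeι.app V.1 (rf hVU (a i)) = 0
        exact RingHom.mem_ker.1 ((D i).ker_subschemeι_app V ▸ hmem i)
      have h1 : rs (Q i) hVU (LogNCD.oneOn (D i) U.1) = LogNCD.oneOn (D i) V.1 := by
        refine (ClSub.Basis.map_app (ClSub.toSubscheme (D i)) hVU (OmegaSh.strSect X U.1 1)).symm.trans ?_
        exact congrArg _ (map_one (X.presheaf.map (homOfLE hVU).op).hom)
      rw [h1]
      exact (quot_smul_one V.1 (D i) (rf hVU (a i))).trans hmem'
    refine hκ ((?_ : Mm = 0).trans (map_zero _).symm)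
    rw [hdecomp U.1 Mm, hp, map_zero, zero_add]
    exact Finset.sum_eq_zero fun i _ => by rw [hq, map_zero, map_zero]
  · -- g dl = ι dg
    refine hκ ?_
    show κ.app U.1 (g i • dl i) = κ.app U.1 (ι.app U.1 (d.app U.1 (g i)))
    rw [happ, hκι, hdl i]
    have hq0 : g i • (show Γ(Q i, U.1) from LogNCD.oneOn (D i) U.1) = 0 := by
      refine (quot_smul_one U.1 (D i) (g i)).trans ?_
      show (D i).subschemeι.app U.1 (g i) = 0
      exact RingHom.mem_ker.1 ((D i).ker_subschemeι_app U ▸ (hg i ▸ Ideal.mem_span_singleton_self (g i) : g i ∈ (D i).ideal U))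
    rw [smul_add, ← happ, hz, ← happ, ← happ, hq0, map_zero, map_zero, add_zero]
  · -- generation
    refine eq_top_iff.2 fun m₀ _ => ?_
    let m : Γ(kernel φ, U.1) := m₀
    show m ∈ _
    choose a ha using fun i => quot_exists_smul_one (D i) U ((res i).app U.1 m)
    let m' : Γ(kernel φ, U.1) := m - ∑ i, a i • dl i
    have hm'q : ∀ i, (Pi.π Q i).app U.1 ((biprod.snd : M ⟶ _).app U.1 (κ.app U.1 m')) = 0 := fun i => by
      simp only [m', map_sub, map_sum, happ]
      rw [Finset.sum_eq_single i (fun j _ hj => by rw [hdl j, hEne j i hj, smul_zero])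
        (fun h => absurd (Finset.mem_univ i) h), hdl i, hEself, ← hres, sub_eq_zero]
      exact (ha i).symm
    have hπ : (cokernel.π (η Ω' D)).app U.1 ((biprod.fst : M ⟶ _).app U.1 (κ.app U.1 m')) = 0 := by
      have := app_kernel_ι_app φ U.1 m'
      rwa [hφ, Finset.sum_eq_zero (fun i _ => by rw [hm'q, map_zero]), sub_zero] at this
    obtain ⟨w, hw⟩ := exists_of_π_eq_zero D U.1 _ hπ
    have e : m' = ι.app U.1 w := hκ (by
      rw [hκι, hw, hdecomp U.1 (κ.app U.1 m'), Finset.sum_eq_zero (fun i _ => by rw [hm'q, map_zero, map_zero]),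
        add_zero]
      rw [(hfst _ _).1])
    have hm0 : m = ι.app U.1 w + ∑ i, a i • dl i := by rw [← e]; simp [m']
    have h1 : ∀ (T : Submodule Γ(X, U.1) ((kernel φ).val.obj (op U.1))) (p : Γ(kernel φ, U.1)) (q : Fin r → Γ(kernel φ, U.1)),
        (show (kernel φ).val.obj (op U.1) from p) ∈ T → (∀ i, (show (kernel φ).val.obj (op U.1) from q i) ∈ T) →
          (show (kernel φ).val.obj (op U.1) from p + ∑ i, a i • q i) ∈ T := by
      intro T p q hp hq
      have hs : ∀ s : Finset (Fin r), (show (kernel φ).val.obj (op U.1) from p + ∑ i ∈ s, a i • q i) ∈ T := by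
        intro s
        induction s using Finset.induction_on with
        | empty => rw [Finset.sum_empty, add_zero]; exact hp
        | insert k s hk ih =>
          rw [Finset.sum_insert hk, add_left_comm]
          exact T.add_mem (T.smul_mem (a k) (hq k)) ih
      exact hs Finset.univ
    show (show (kernel φ).val.obj (op U.1) from m) ∈ _
    rw [hm0]
    exact h1 _ _ _ (Submodule.subset_span (Or.inl ⟨w, rfl⟩)) fun i => Submodule.subset_span (Or.inr ⟨i, rfl⟩)
  · show (res i).app U.1 (dl i) = _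
    rw [hres, hdl, hEself]
  · show (res j).app U.1 (dl i) = 0
    rw [hres, hdl, hEne i j h]

end Groth.Agent.Lib.LogNCD37.Assemble
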