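import Groth.Prelude.Def_LogNCD2
import Groth.Agent.Lib.Modules.TensorSec
import Groth.Agent.Lib.TensorMod.Colimit
import Groth.Agent.Lib.ClSub.Quot

/-!
The residue of a logarithmic connection.
-/

set_option autoImplicit false
set_option linter.style.haveILetI false

universe u

open CategoryTheory CategoryTheory.Limits AlgebraicGeometry Opposite TopologicalSpace
open Groth.Agent.Lib.TensorMod.Dual (rs rf rs_rs rs_smul)
open Groth.Agent.Lib.Modules.TensorSec

namespace Groth.Agent.Lib.LogNCD37.Residue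

variable {X S : Scheme.{u}}

theorem tens_eq_tmul {M N : X.Modules} {U : X.Opens} (m : Γ(M, U)) (n : Γ(N, U)) :
    tens m n = SecTwist.tmul M N U m n := by
  rw [tens, TensorMod.Free.pairM, Adjunction.homEquiv_unit]
  have e : (TensorMod.Basic.adj X).unit.app (CohB1.tensorPre M N) ≫
      (TensorMod.Basic.fgt X).map (𝟙 (CohB1.tensorMod M N)) =
        (TensorMod.Basic.adj X).unit.app (CohB1.tensorPre M N) :=
    (congrArg (_ ≫ ·) ((TensorMod.Basic.fgt X).map_id _)).trans (Category.comp_id _)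
  exact congrArg (fun t => TensorMod.Whisker.pair (M := (TensorMod.Basic.fgt X).obj M)
    (P := (TensorMod.Basic.fgt X).obj N) (H := (TensorMod.Basic.fgt X).obj (CohB1.tensorMod M N))
    (X := op U) t m n) e

theorem tensorMap_tens {M M' N N' : X.Modules} (f : M ⟶ M') (g : N ⟶ N') {U : X.Opens} (m : Γ(M, U))
    (n : Γ(N, U)) : (KoszTw.tensorMap f g).app U (tens m n) = tens (f.app U m) (g.app U n) := by
  rw [tens_eq_tmul, tens_eq_tmul]
  exact KoszTw.tensorMap_tmul f g U m n

theorem tensorMap_eq_tmap {M M' N N' : X.Modules} (f : M ⟶ M') (g : N ⟶ N') :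
    KoszTw.tensorMap f g = TensorMod.Basic.tmap f g := by
  refine Scheme.Modules.hom_ext _ _ fun U => ?_
  ext u
  refine app_eq_app _ _ (fun V _ m n => ?_) u
  rw [tensorMap_tens, tmap_tens]

/-- The ideal kills `E ⊗ O_X/I`. -/
theorem smul_eq_zero (E : X.Modules) (I : X.IdealSheafData) {U : X.Opens} (s : Γ(X, U))
    (hs : I.subschemeι.app U s = 0) (u : Γ(CohB1.tensorMod E (ClSub.quotMod I), U)) : s • u = 0 := by
  suffices h : rf le_rfl s • u = 0 by
    rw [← h]
    congr 1
    exact (TensorMod.Dual.rf_self le_rfl s).symm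
  refine induction_on (U := U) (P := fun V hV a => rf hV s • a = 0) ?_ ?_ ?_ ?_ U le_rfl u
  · refine fun V hV a ha => section_ext _ _ _ fun x hx => ?_
    obtain ⟨W, hW, hxW, e⟩ := ha x hx
    refine ⟨W, hW, hxW, ?_⟩
    rw [rs_smul, Modules.TensorSec.rs_zero, ← e]
    congr 1
    exact TensorMod.Dual.rf_rf hV hW s
  · intro V _; exact smul_zero _
  · intro V _ a b ha hb; rw [smul_add, ha, hb, add_zero]
  · intro V hV m n
    rw [← tens_smul_right]
    refine (congrArg (tens m) ?_).trans (tens_zero_right m)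
    have h0 : I.subschemeι.app V (rf hV s) = 0 := by
      have := ConcreteCategory.congr_hom (I.subschemeι.naturality (homOfLE hV).op) s
      rw [ConcreteCategory.comp_apply, ConcreteCategory.comp_apply, hs, map_zero] at this
      exact this
    show (I.subschemeι.app V (rf hV s)) * (show Γ(I.subscheme, I.subschemeι ⁻¹ᵁ V) from n) = 0
    rw [h0, zero_mul]

variable {f : X ⟶ S} {Ω' : X.Modules} {d : OmegaSh.Der f Ω'} {r : ℕ} {D : Fin r → X.IdealSheafData}

theorem exists_residue (Λ : LogNCD.LogMod d D) (E : X.Modules)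
    (nabla : Coh.toAb E ⟶ Coh.toAb (CohB1.tensorMod E Λ.L)) (hc : ConnSh.IsConn (LogNCD.der Λ) E nabla)
    (i : Fin r) :
    ∃ ρ : E ⟶ CohB1.tensorMod E (ClSub.quotMod (D i)), LogNCD.IsResidue Λ E nabla i ρ ∧
      ∃ R : CohB1.tensorMod E (ClSub.quotMod (D i)) ⟶ CohB1.tensorMod E (ClSub.quotMod (D i)),
        (SecTwist.unitorR E).inv ≫ KoszTw.tensorMap (𝟙 E) (ClSub.toSubscheme (D i)) ≫ R = ρ := by
  let T := CohB1.tensorMod E (ClSub.quotMod (D i))
  let Φ : CohB1.tensorMod E Λ.L ⟶ T := KoszTw.tensorMap (𝟙 E) (Λ.res i)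
  let g : Coh.toAb E ⟶ Coh.toAb T := nabla ≫ (SheafOfModules.toSheaf X.ringCatSheaf).map Φ
  have hlin : ∀ (U : X.Opens) (t : Γ(X, U)) (e : Γ(E, U)),
      (ConnSh.secApp g U (t • e) : Γ(T, U)) = t • (ConnSh.secApp g U e : Γ(T, U)) := by
    intro U t e
    show Φ.app U (ConnSh.secApp nabla U (t • e)) = t • Φ.app U (ConnSh.secApp nabla U e)
    have h := hc U t e
    refine (congrArg (Φ.app U) h).trans ?_
    refine (map_add (Φ.app U).hom _ _).trans ?_
    refine (congrArg₂ (fun a b : Γ(T, U) => a + b) (Φ.val.app (op U) |>.hom.map_smul t _) ?_).trans (add_zero _)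
    have e1 := tensorMap_tens (𝟙 E) (Λ.res i) (U := U) e ((LogNCD.der Λ).app U t)
    rw [tens_eq_tmul] at e1
    refine e1.trans ?_
    refine (congrArg (tens (M := E) (N := ClSub.quotMod (D i)) _) ?_).trans (tens_zero_right _)
    show ((Λ.ι ≫ Λ.res i).app U) (d.app U t) = 0
    rw [Λ.res_ι i, Scheme.Modules.Hom.zero_app]
    rfl
  let ρ : E ⟶ T := ⟨PresheafOfModules.homMk g.hom fun U t e => hlin U.unop t e⟩
  refine ⟨ρ, ?_, ?_⟩
  · rfl
  let F := (TensorMod.Basic.tensorFunctor X).obj E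
  let ψ : CohB1.tensorMod E (Coh.structureModule X) ⟶ T := (SecTwist.unitorR E).hom ≫ ρ
  have hmap : ∀ {A B : X.Modules} (a : A ⟶ B), F.map a = KoszTw.tensorMap (𝟙 E) a := fun a => by
    rw [tensorMap_eq_tmap]; rfl
  have hψ : F.map (ClSub.idealModι (D i)) ≫ ψ = 0 := by
    rw [hmap]
    refine Scheme.Modules.hom_ext _ _ fun U => ?_
    ext u
    refine app_eq_app (KoszTw.tensorMap (𝟙 E) (ClSub.idealModι (D i)) ≫ ψ) 0 (fun V _ m n => ?_) u
    rw [Scheme.Modules.Hom.zero_app]
    show ρ.app V ((SecTwist.unitorR E).hom.app V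
      ((KoszTw.tensorMap (𝟙 E) (ClSub.idealModι (D i))).app V (tens m n))) = 0
    rw [tensorMap_tens, tens_eq_tmul]
    let s : Γ(X, V) := (ClSub.idealModι (D i)).app V n
    refine (congrArg (ρ.app V) (SecTwist.unitorR_tmul E V _ s)).trans ?_
    refine (ρ.val.app (op V) |>.hom.map_smul s m).trans ?_
    exact smul_eq_zero E (D i) s (ClSub.Sections.app_kernel_ι_app (ClSub.toSubscheme (D i)) V n) _
  have hS := ClSub.Quot.idealSeq_shortExact (D i)
  haveI := hS.epi_g
  haveI : PreservesColimitsOfSize.{0, 0} F :=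
    preservesSmallestColimits_of_preservesColimits F
  have hcok := CokernelCofork.mapIsColimit (CokernelCofork.ofπ _ (ClSub.Quot.idealSeq (D i)).zero) hS.exact.gIsCokernel F
  let R : T ⟶ T := hcok.desc (CokernelCofork.ofπ ψ hψ)
  refine ⟨R, ?_⟩
  have hR : F.map (ClSub.toSubscheme (D i)) ≫ R = ψ :=
    hcok.fac (CokernelCofork.ofπ ψ hψ) WalkingParallelPair.one
  rw [← hmap]
  exact (congrArg ((SecTwist.unitorR E).inv ≫ ·) hR).trans (Iso.inv_hom_id_assoc _ _)

end Groth.Agent.Lib.LogNCD37.Residue
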