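import Groth.Agent.Lib.Modules.TensorSec
import Mathlib.AlgebraicGeometry.AffineScheme

/-!
# Morphisms of modules from their values on a basis of affine opens (adapted from `Lib.Modules.AffineHom`)
-/

set_option autoImplicit false
universe u

open CategoryTheory AlgebraicGeometry Opposite TopologicalSpace

namespace Groth.Agent.Lib.LogNCD37.BasisHom

open Groth.Agent.Lib.TensorMod.Dual (rs rf rs_rs rs_smul)
open Groth.Agent.Lib.Modules.TensorSec (section_ext app_rs)

variable {X : Scheme.{u}} {M N : X.Modules}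

variable (P : X.affineOpens → Prop)
  (hP : ∀ {V : X.Opens} {x : X}, x ∈ V → ∃ U : X.affineOpens, P U ∧ U.1 ≤ V ∧ x ∈ U.1)

variable (φ : ∀ U : X.affineOpens, P U → Γ(M, U.1) →ₗ[Γ(X, U.1)] Γ(N, U.1))
  (hφ : ∀ (U V : X.affineOpens) (pU : P U) (pV : P V) (h : V.1 ≤ U.1) (m : Γ(M, U.1)), rs N h (φ U pU m) = φ V pV (rs M h m))

include hP hφ in
theorem existsUnique_value (V : X.Opens) (m : Γ(M, V)) :
    ∃! t : Γ(N, V), ∀ (U : X.affineOpens) (pU : P U) (h : U.1 ≤ V), rs N h t = φ U pU (rs M h m) := by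
  refine existsUnique_of_exists_of_unique ?_ fun t t' ht ht' => section_ext _ _ _ fun x hx => ?_
  · let ι := {U : X.affineOpens // P U ∧ U.1 ≤ V}
    have hcov : V ≤ ⨆ U : ι, U.1.1 := fun x hx => by
      obtain ⟨U, pU, hUV, hxU⟩ := hP hx
      exact Opens.mem_iSup.2 ⟨⟨U, pU, hUV⟩, hxU⟩
    obtain ⟨t, ht, -⟩ := TopCat.Sheaf.existsUnique_gluing'
      (⟨N.presheaf, N.isSheaf⟩ : TopCat.Sheaf AddCommGrpCat.{u} X) (fun U : ι => U.1.1) V
      (fun U => homOfLE U.2.2) hcov (fun U => φ U.1 U.2.1 (rs M U.2.2 m)) fun U U' => by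
        refine section_ext (U := U.1.1 ⊓ U'.1.1) N _ _ fun x hx => ?_
        obtain ⟨W, pW, hW, hxW⟩ := hP hx
        refine ⟨W.1, hW, hxW, ?_⟩
        show rs N hW (rs N inf_le_left _) = rs N hW (rs N inf_le_right _)
        rw [rs_rs, rs_rs, hφ _ _ _ pW, hφ _ _ _ pW, rs_rs, rs_rs]
    exact ⟨t, fun U pU h => ht ⟨U, pU, h⟩⟩
  · obtain ⟨U, pU, hUV, hxU⟩ := hP hx
    exact ⟨U.1, hUV, hxU, (ht U pU hUV).trans (ht' U pU hUV).symm⟩

include hP hφ in
/-- Compatible linear maps on affine opens give a morphism. -/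
theorem exists_hom : ∃ ψ : M ⟶ N, ∀ (U : X.affineOpens) (pU : P U) (m : Γ(M, U.1)), ψ.app U.1 m = φ U pU m := by
  choose f hf huniq using existsUnique_value P hP φ hφ
  have hadd : ∀ V a b, f V (a + b) = f V a + f V b := fun V a b =>
    (huniq V (a + b) _ fun U pU h => by simp only [map_add]; exact congrArg₂ (· + ·) (hf V a U pU h) (hf V b U pU h)).symm
  have hzero : ∀ V, f V 0 = 0 := fun V => (huniq V 0 _ fun U pU h => by simp only [map_zero]).symm
  let fp : M.presheaf ⟶ N.presheaf :=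
    { app := fun V => AddCommGrpCat.ofHom { toFun := f V.unop, map_zero' := hzero _, map_add' := hadd _ }
      naturality := fun V V' k => by
        ext m
        show f V'.unop (rs M k.unop.le m) = rs N k.unop.le (f V.unop m)
        refine (huniq V'.unop _ _ fun U pU h => ?_).symm
        rw [rs_rs, hf _ _ U pU, rs_rs] }
  refine ⟨⟨PresheafOfModules.homMk fp fun V r m => ?_⟩, fun U pU m => ?_⟩
  · show f V.unop ((show Γ(X, V.unop) from r) • (show Γ(M, V.unop) from m)) =
      (show Γ(X, V.unop) from r) • f V.unop m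
    exact (huniq V.unop _ _ fun U pU h => by rw [rs_smul, hf _ _ U pU, rs_smul, map_smul]).symm
  · show f U.1 m = _
    exact (TensorMod.Dual.rs_self N le_rfl _).symm.trans
      ((hf U.1 m U pU le_rfl).trans (by rw [TensorMod.Dual.rs_self]))

end Groth.Agent.Lib.LogNCD37.BasisHom
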