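import Groth.Agent.Lib.LogNCD37.Frame

/-!
Log differentials are locally free.
-/

set_option autoImplicit false
set_option linter.style.haveILetI false

universe u

open CategoryTheory CategoryTheory.Limits AlgebraicGeometry Opposite TopologicalSpace
open Groth.Agent.Lib.LogNCD37.Basic Groth.Agent.Lib.LogNCD37.SubLog
open Groth.Agent.Lib.TensorMod.Dual (rs rf rs_rs rs_smul)
open Groth.Agent.Lib.TensorMod.Basis
open Groth.Agent.Lib.Modules.Free (gen)

namespace Groth.Agent.Lib.LogNCD37.Free

variable {X S : Scheme.{u}} {f : X ⟶ S} {Ω' : X.Modules} {d : OmegaSh.Der f Ω'}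

/-- Sections that form a basis over every affine open below `U` trivialise the restriction. -/
theorem exists_iso_of_affine {M : X.Modules} {U : X.Opens} {n : ℕ} (e : Fin n → Γ(M, U))
    (he : ∀ (V : X.Opens) (h : V ≤ U), IsAffineOpen V → Function.Bijective (TensorMod.Basis.comb e h)) :
    Nonempty (M.restrict U.ι ≅ FlatMod.freeMod (↑U) n) := by
  have hU : U.ι ''ᵁ ⊤ ≤ U := U.ι_image_le _
  let s : Fin n → Γ(M.restrict U.ι, ⊤) := fun k =>
    (M.restrictAppIso U.ι ⊤).inv (rs M hU (e k))
  let φ := Modules.Free.freeHom (M := M.restrict U.ι) s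
  have : IsIso φ := by
    refine ClSub.Basis.isIso_of_bijective_affine φ fun W => ?_
    refine (Function.Bijective.of_comp_iff _ (isBasis_freeMod (U : Scheme.{u}) n W.1 le_top)).1 ?_
    have h : φ.app W.1 ∘ TensorMod.Basis.comb (X := (U : Scheme.{u})) (U := ⊤) (gen (U : Scheme.{u})) (le_top (a := W.1)) =
        (M.restrictAppIso U.ι W.1).inv ∘ TensorMod.Basis.comb e (U.ι_image_le W.1) ∘
          (fun a k => (U.ι.appIso W.1).inv (a k)) := by
      funext a
      simp only [Function.comp_apply]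
      rw [app_comb]
      simp only [φ, Groth.Agent.Lib.Modules.Free.freeHom_app_gen]
      simp only [TensorMod.Basis.comb, s]
      rw [map_sum]
      refine Finset.sum_congr rfl fun k _ => ?_
      refine congrArg (a k • ·) ?_
      exact rs_rs M hU (Scheme.Hom.image_mono U.ι (le_top (a := W.1))) (e k)
    rw [h]
    exact (ConcreteCategory.bijective_of_isIso (M.restrictAppIso U.ι W.1).inv).comp
      ((he _ (U.ι_image_le W.1) (W.2.image_of_isOpenImmersion U.ι)).comp
        (Function.Bijective.piMap fun _ => ConcreteCategory.bijective_of_isIso (U.ι.appIso W.1).inv))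
  exact ⟨(asIso φ).symm⟩

variable {r : ℕ} {D : Fin r → X.IdealSheafData}

theorem isFinLocFreeOfRank (n : ℕ) [SmoothOfRelativeDimension n f] (hd : OmegaSh.IsUniversal d)
    (hD : LogNCD.IsNCD D f) (Λ : LogNCD.LogMod d D) : FlatMod.IsFinLocFreeOfRank n Λ.L := by
  classical
  intro x
  obtain ⟨U, g, b, ε, hxU, -, hg, hb, hε, hg1, hbε, -⟩ := Frame.exists_frame n hd hD x (O := ⊤) trivial
  obtain ⟨hreg, dl, hdl, hspan, -, -⟩ := Λ.rule U g hg
  haveI := Λ.mono
  let ιb : Fin n → Γ(Λ.L, U.1) := fun j => Λ.ι.app U.1 (b j)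
  let c : Fin n → Γ(Λ.L, U.1) := Function.extend ε (fun i => dl i.1) ιb
  refine ⟨U.1, hxU, exists_iso_of_affine c fun V hV hVa => ?_⟩
  let V' : X.affineOpens := ⟨V, hVa⟩
  let gV : Fin r → Γ(X, V) := fun i => rf hV (g i)
  have hgV : ∀ i, (D i).ideal V' = Ideal.span {gV i} := fun i => ideal_restrict _ hV (hg i)
  obtain ⟨hregV, dlV, hdlV, hspanV, -, -⟩ := Λ.rule V' gV hgV
  have hprod : ∀ i, ∃ q, ∏ k, gV k = q * gV i := fun i =>
    ⟨∏ k ∈ Finset.univ.erase i, gV k, by rw [mul_comm, Finset.mul_prod_erase _ _ (Finset.mem_univ _)]⟩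
  let η : Fin r → Γ(Ω', V) := fun i => d.app V (gV i)
  have hη : ∀ i, rs Ω' hV (d.app U.1 (g i) : Γ(Ω', U.1)) = η i := fun i =>
    (PresheafOfModules.Derivation.d_map d (homOfLE hV).op (g i)).symm
  have hdl' : ∀ i, gV i • rs Λ.L hV (dl i) = Λ.ι.app V (η i) := fun i => by
    rw [← hη i, ← rs_smul]
    exact (congrArg (rs Λ.L hV) (hdl i)).trans (ClSub.Basis.map_app Λ.ι hV _).symm
  have heq : ∀ i, dlV i = rs Λ.L hV (dl i) := fun i => by
    refine sub_eq_zero.1 (hregV _ ?_)
    obtain ⟨q, hq⟩ := hprod i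
    rw [hq, mul_smul, smul_sub]
    refine (congrArg (q • ·) (sub_eq_zero.2 ((hdlV i).trans ?_))).trans (smul_zero _)
    exact (hdl' i).symm
  let bV : Fin n → Γ(Ω', V) := fun j => rs Ω' hV (b j)
  have hc : ∀ a : Fin n → Γ(X, V), TensorMod.Basis.comb c hV a = ∑ j, a j • rs Λ.L hV (c j) := fun a => rfl
  have hcase : ∀ j, ∃ t, (∏ k, gV k) • rs Λ.L hV (c j) = Λ.ι.app V (t • bV j) ∧ ∃ q, ∏ k, gV k = t * q := by
    intro j
    by_cases h : ∃ i, ε i = j
    · obtain ⟨i, rfl⟩ := h
      obtain ⟨q, hq⟩ := hprod i.1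
      refine ⟨q, ?_, gV i.1, hq⟩
      simp only [c, hε.extend_apply]
      rw [hq, mul_smul, hdl', ← hη]
      simp only [bV, hbε]
      exact (app_smul _ _ _ _).symm
    · refine ⟨∏ k, gV k, ?_, 1, (mul_one _).symm⟩
      simp only [c, Function.extend_apply' _ _ _ h]
      rw [show rs Λ.L hV (ιb j) = Λ.ι.app V (bV j) from (ClSub.Basis.map_app Λ.ι hV _).symm]
      exact (app_smul _ _ _ _).symm
  have hbV := hb V hV
  have hregO : ∀ (a : Γ(X, V)) (j : Fin n), (∏ k, gV k) * a = 0 → a = 0 := fun a j ha => by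
    have h0 : a • bV j = 0 := app_injective Λ.ι V ((hregV _ (by
      rw [← app_smul]
      exact (congrArg _ ((smul_smul _ a (bV j)).trans (by rw [ha]; exact zero_smul _ _))).trans (map_zero _))).trans (map_zero _).symm)
    have h1 := @hbV.1 (Pi.single j a) 0 (by
      simp only [TensorMod.Basis.comb, Pi.zero_apply, zero_smul, Finset.sum_const_zero]
      rw [Finset.sum_eq_single j (fun l _ hl => by rw [Pi.single_eq_of_ne hl, zero_smul]) (by simp),
        Pi.single_eq_same]
      exact h0)
    simpa using congrFun h1 j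
  constructor
  · intro a a' h
    choose t ht q hq using hcase
    have hsum : Λ.ι.app V (∑ j, (a j * t j) • bV j) = Λ.ι.app V (∑ j, (a' j * t j) • bV j) := by
      have key : ∀ a : Fin n → Γ(X, V), Λ.ι.app V (∑ j, (a j * t j) • bV j) =
          (∏ k, gV k) • TensorMod.Basis.comb c hV a := fun a => by
        rw [hc, map_sum, Finset.smul_sum]
        refine Finset.sum_congr rfl fun j _ => ?_
        rw [smul_comm, ht j, mul_smul]
        exact app_smul _ _ _ _
      rw [key, key, h]
    have hzero := @hbV.1 (fun j => a j * t j) (fun j => a' j * t j) (app_injective Λ.ι V hsum)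
    funext j
    refine sub_eq_zero.1 (hregO _ j ?_)
    rw [hq j, mul_sub, sub_eq_zero]
    linear_combination q j * congrFun hzero j
  · let R : Submodule Γ(X, V) Γ(Λ.L, V) := Submodule.span _ (Set.range fun j => rs Λ.L hV (c j))
    have hb' : ∀ j, Λ.ι.app V (bV j) ∈ R := fun j => by
      by_cases h : ∃ i, ε i = j
      · obtain ⟨i, rfl⟩ := h
        have : Λ.ι.app V (bV (ε i)) = gV i.1 • rs Λ.L hV (c (ε i)) := by
          simp only [c, hε.extend_apply]
          rw [hdl', ← hη]
          simp only [bV, hbε]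
        rw [this]
        exact Submodule.smul_mem _ _ (Submodule.subset_span ⟨_, rfl⟩)
      · refine Submodule.subset_span ⟨j, ?_⟩
        simp only [c, Function.extend_apply' _ _ _ h]
        exact (ClSub.Basis.map_app Λ.ι hV _).symm
    have hι : ∀ w : Γ(Ω', V), Λ.ι.app V w ∈ R := fun w => by
      obtain ⟨a, rfl⟩ := hbV.2 w
      rw [TensorMod.Basis.comb, map_sum]
      refine Submodule.sum_mem _ fun j _ => ?_
      rw [show Λ.ι.app V (a j • rs Ω' hV (b j)) = a j • Λ.ι.app V (bV j) from app_smul _ _ _ _]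
      exact Submodule.smul_mem _ _ (hb' j)
    intro m
    obtain ⟨w, a, hwa⟩ := exists_decomp Λ dlV hspanV m
    have hm : m ∈ R := by
      rw [hwa]
      refine Submodule.add_mem _ (hι w) (Submodule.sum_mem _ fun i _ => Submodule.smul_mem _ _ ?_)
      by_cases h : x ∈ (D i).support
      · rw [heq i]
        refine Submodule.subset_span ⟨ε ⟨i, h⟩, ?_⟩
        simp only [c, hε.extend_apply]
      · have h1 : gV i = 1 := by simp only [gV, hg1 i h, map_one]
        have h2 := hdlV i
        rw [h1, one_smul] at h2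
        rw [h2]
        exact hι _
    obtain ⟨a', ha'⟩ := (Submodule.mem_span_range_iff_exists_fun _).1 hm
    exact ⟨a', ha'⟩

end Groth.Agent.Lib.LogNCD37.Free
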