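import Groth.Prelude.Def_LogNCD
import Groth.Agent.Lib.ClSub.Sections
import Groth.Agent.Lib.ClSub.Basis
import Groth.Agent.Lib.Modules.Stalk
import Mathlib.Algebra.Category.ModuleCat.Basic

/-!
Charts of a normal crossing divisor and the residue sequence of a log module.
-/

set_option autoImplicit false

universe u

open CategoryTheory CategoryTheory.Limits AlgebraicGeometry Opposite TopologicalSpace
open Groth.Agent.Lib.Modules.Stalk Groth.Agent.Lib.ClSub.Basis

namespace Groth.Agent.Lib.LogNCD37.Basic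

variable {X S : Scheme.{u}}

/-- An ideal sheaf whose support misses an affine open is the unit ideal there. -/
theorem ideal_eq_top_of_disjoint (I : X.IdealSheafData) (U : X.affineOpens)
    (h : ∀ y ∈ U.1, y ∉ I.support) : I.ideal U = ⊤ := by
  by_contra hne
  obtain ⟨m, hm, hIm⟩ := Ideal.exists_le_maximal _ hne
  let p : PrimeSpectrum Γ(X, U.1) := ⟨m, hm.isPrime⟩
  let y : X := U.2.fromSpec p
  have hyU : y ∈ U.1 := by
    have : y ∈ Set.range U.2.fromSpec := ⟨p, rfl⟩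
    rwa [U.2.range_fromSpec] at this
  refine h y hyU ?_
  have hy : p ∈ U.2.fromSpec ⁻¹' X.zeroLocus (U := U.1) (I.ideal U) := by
    rw [U.2.fromSpec_preimage_zeroLocus]
    exact hIm
  exact (Scheme.IdealSheafData.mem_supportSet_iff_of_mem hyU).2 hy

variable {r : ℕ} (D : Fin r → X.IdealSheafData) {f : X ⟶ S}

/-- Every point has a basis of affine opens on which all components are principal. -/
theorem exists_principal (hD : LogNCD.IsNCD D f) (x : X) {V : X.Opens} (hx : x ∈ V) :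
    ∃ W : X.Opens, x ∈ W ∧ W ≤ V ∧ ∀ U : X.affineOpens, U.1 ≤ W →
      ∃ g : Fin r → Γ(X, U.1), ∀ i, (D i).ideal U = Ideal.span {g i} := by
  classical
  by_cases hT : Nonempty (LogNCD.Through D x)
  · obtain ⟨W, hxW, n, v, e, -, -, h1, h2⟩ := hD x hT
    refine ⟨W ⊓ V, ⟨hxW, hx⟩, inf_le_right, fun U hU => ?_⟩
    have hUW : U.1 ≤ W := hU.trans inf_le_left
    refine ⟨fun i => if h : x ∈ (D i).support then LogNCD.sectOn W hUW (v (ULift.up (e ⟨i, h⟩))) else 1,
      fun i => ?_⟩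
    by_cases h : x ∈ (D i).support
    · simp only [dif_pos h]; exact h1 ⟨i, h⟩ U hUW
    · simp only [dif_neg h, Ideal.span_singleton_one]; exact h2 i h U hUW
  · let C : Set X := ⋃ i, ((D i).support : Set X)
    have hC : IsClosed C := isClosed_iUnion_of_finite fun i => (D i).support.isClosed
    refine ⟨V ⊓ ⟨Cᶜ, hC.isOpen_compl⟩, ⟨hx, ?_⟩, inf_le_left, fun U hU => ⟨fun _ => 1, fun i => ?_⟩⟩
    · intro hxC
      obtain ⟨i, hi⟩ := Set.mem_iUnion.1 hxC
      exact hT ⟨⟨i, hi⟩⟩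
    · rw [Ideal.span_singleton_one]
      exact ideal_eq_top_of_disjoint _ U fun y hy hyD => (hU hy).2 (Set.mem_iUnion.2 ⟨i, hyD⟩)

/-- An affine chart around a point, inside a given open. -/
theorem exists_chart (hD : LogNCD.IsNCD D f) (x : X) {V : X.Opens} (hx : x ∈ V) :
    ∃ U : X.affineOpens, x ∈ U.1 ∧ U.1 ≤ V ∧
      ∃ g : Fin r → Γ(X, U.1), ∀ i, (D i).ideal U = Ideal.span {g i} := by
  obtain ⟨W, hxW, hWV, hW⟩ := exists_principal D hD x hx
  obtain ⟨U, hUW, hxU⟩ := exists_affine_le hxW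
  exact ⟨U, hxU, hUW.trans hWV, hW U hUW⟩

section Sections

variable {M N : X.Modules} (φ : M ⟶ N) (U : X.Opens)

theorem app_smul (a : Γ(X, U)) (m : M.val.obj (op U)) :
    (φ.val.app (op U)).hom (a • m) = a • (φ.val.app (op U)).hom m :=
  (φ.val.app (op U)).hom.map_smul a m

theorem quot_smul_one (I : X.IdealSheafData) (a : Γ(X, U)) :
    a • LogNCD.oneOn I U = ((ClSub.toSubscheme I).val.app (op U)).hom (OmegaSh.strSect X U a) := by
  rw [LogNCD.oneOn, ← app_smul]
  congr 1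
  exact (mul_one a : a * (1 : Γ(X, U)) = a)

theorem quot_smul_one_eq_zero (I : X.IdealSheafData) (U : X.affineOpens) {a : Γ(X, U.1)}
    (h : a • LogNCD.oneOn I U.1 = 0) : a ∈ I.ideal U := by
  rw [quot_smul_one] at h
  rw [← I.ker_subschemeι_app U, RingHom.mem_ker]
  exact h

theorem quot_exists_smul_one (I : X.IdealSheafData) (U : X.affineOpens)
    (q : (ClSub.quotMod I).val.obj (op U.1)) : ∃ a : Γ(X, U.1), a • LogNCD.oneOn I U.1 = q := by
  obtain ⟨a, ha⟩ := I.subschemeι_app_surjective U q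
  exact ⟨a, (quot_smul_one U.1 I a).trans ha⟩

theorem exists_zero_nhd (x : X) (hxU : x ∈ U) (m : Γ(M, U)) (h : M.presheaf.germ U x hxU m = 0) :
    ∃ V : X.Opens, ∃ hVU : V ≤ U, x ∈ V ∧ M.presheaf.map (homOfLE hVU).op m = 0 := by
  rw [← map_zero (M.presheaf.germ U x hxU).hom] at h
  obtain ⟨W, hxW, i₁, i₂, hW⟩ := M.presheaf.germ_eq x hxU hxU _ _ h
  refine ⟨W, i₁.le, hxW, ?_⟩
  have : homOfLE i₁.le = i₁ := Subsingleton.elim _ _
  rw [this, hW, map_zero]

end Sections

variable {Ω' : X.Modules} {d : OmegaSh.Der f Ω'} {D}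

/-- Residues of the standard generators. -/
theorem res_sum {U : X.Opens} (Λ : LogNCD.LogMod d D) (w : Ω'.val.obj (op U)) (a : Fin r → Γ(X, U))
    (dl : Fin r → Λ.L.val.obj (op U))
    (h1 : ∀ i, ((Λ.res i).val.app (op U)).hom (dl i) = LogNCD.oneOn (D i) U)
    (h2 : ∀ i j, i ≠ j → ((Λ.res j).val.app (op U)).hom (dl i) = 0) (j : Fin r) :
    ((Λ.res j).val.app (op U)).hom ((Λ.ι.val.app (op U)).hom w + ∑ i, a i • dl i) =
      a j • LogNCD.oneOn (D j) U := by
  have h0 : ((Λ.res j).val.app (op U)).hom ((Λ.ι.val.app (op U)).hom w) = 0 := by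
    change ((Λ.ι ≫ Λ.res j).app U) w = 0
    rw [Λ.res_ι j, Scheme.Modules.Hom.zero_app]; rfl
  rw [map_add, h0, zero_add, map_sum, Finset.sum_eq_single j]
  · rw [app_smul, h1]
  · intro i _ hi
    rw [app_smul, h2 i j hi, smul_zero]
  · intro h; exact absurd (Finset.mem_univ j) h

theorem exists_decomp {U : X.Opens} (Λ : LogNCD.LogMod d D) (dl : Fin r → Λ.L.val.obj (op U))
    (hspan : Submodule.span Γ(X, U) (Set.range ((Λ.ι.val.app (op U)).hom) ∪ Set.range dl) = ⊤)
    (m : Λ.L.val.obj (op U)) :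
    ∃ (w : Ω'.val.obj (op U)) (a : Fin r → Γ(X, U)), m = (Λ.ι.val.app (op U)).hom w + ∑ i, a i • dl i := by
  have hm : m ∈ Submodule.span Γ(X, U) (Set.range ((Λ.ι.val.app (op U)).hom) ∪ Set.range dl) :=
    hspan ▸ Submodule.mem_top
  rw [Submodule.span_union, Submodule.mem_sup] at hm
  obtain ⟨p, hp, q, hq, rfl⟩ := hm
  obtain ⟨a, rfl⟩ := (Submodule.mem_span_range_iff_exists_fun _).1 hq
  have hp' : p ∈ Set.range ((Λ.ι.val.app (op U)).hom) := by
    induction hp using Submodule.span_induction with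
    | mem y hy => exact hy
    | zero => exact ⟨0, map_zero _⟩
    | add y z _ _ hy hz =>
      obtain ⟨y', rfl⟩ := hy; obtain ⟨z', rfl⟩ := hz; exact ⟨y' + z', map_add _ _ _⟩
    | smul c y _ hy => obtain ⟨y', rfl⟩ := hy; exact ⟨c • y', app_smul _ _ _ _⟩
  obtain ⟨w, rfl⟩ := hp'
  exact ⟨w, a, rfl⟩

end Groth.Agent.Lib.LogNCD37.Basic
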