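import Groth.Agent.Lib.LogNCD37.Frame
import Mathlib.CategoryTheory.Preadditive.Biproducts

/-!
Existence of the module of log differentials.
-/

set_option autoImplicit false
set_option linter.style.haveILetI false

universe u

open CategoryTheory CategoryTheory.Limits AlgebraicGeometry Opposite TopologicalSpace
open Groth.Agent.Lib.LogNCD37.Basic Groth.Agent.Lib.Modules.Stalk
open Groth.Agent.Lib.TensorMod.Dual (rs rf rs_rs rs_smul)
open Groth.Agent.Lib.TensorMod.Basis (IsBasis)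
open Groth.Agent.Lib.ClSub.Sections (exists_kernel_ι_app_eq kernel_ι_app_injective app_kernel_ι_app)

noncomputable section

namespace Groth.Agent.Lib.LogNCD37.Exist

variable {X S : Scheme.{u}} {f : X ⟶ S} {Ω' : X.Modules} (d : OmegaSh.Der f Ω')
  {r : ℕ} (D : Fin r → X.IdealSheafData)

/-- The complement of the divisor. -/
def C : X.Opens := ⟨(⋃ i, ((D i).support : Set X))ᶜ,
  (isClosed_iUnion_of_finite fun i => (D i).support.isClosed).isOpen_compl⟩

variable (Ω') in
/-- Forms on the complement. -/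
def P : X.Modules := (Scheme.Modules.pushforward (C D).ι).obj (Ω'.restrict (C D).ι)

variable (Ω') in
/-- Restriction to the complement. -/
def η : Ω' ⟶ P Ω' D := (Scheme.Modules.restrictAdjunction (C D).ι).unit.app Ω'

theorem happ {M N : X.Modules} (φ : M ⟶ N) (U : X.Opens) (a : Γ(X, U)) (m : Γ(M, U)) :
    φ.app U (a • m) = a • φ.app U m := app_smul φ U a m

theorem hcomp {M N K : X.Modules} (φ : M ⟶ N) (ψ : N ⟶ K) (U : X.Opens) (m : Γ(M, U)) :
    (φ ≫ ψ).app U m = ψ.app U (φ.app U m) := by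
  rw [Scheme.Modules.Hom.comp_app]; rfl

abbrev W (U : X.Opens) : X.Opens := (C D).ι ''ᵁ ((C D).ι ⁻¹ᵁ U)

theorem rs0 (M : X.Modules) {U V : X.Opens} (h : V ≤ U) : rs M h 0 = 0 := map_zero _

theorem W_eq (U : X.Opens) : W D U = C D ⊓ U := by
  rw [W, Scheme.Hom.image_preimage_eq_opensRange_inf, Scheme.Opens.opensRange_ι]

theorem W_le (U : X.Opens) : W D U ≤ U := W_eq D U ▸ inf_le_right

theorem smul_def {U : X.Opens} (a : Γ(X, U)) (p : Γ(P Ω' D, U)) :
    (a • p : Γ(P Ω' D, U)) =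
      (show Γ(P Ω' D, U) from (rf (W_le D U) a • (show Γ(Ω', W D U) from p) : Γ(Ω', W D U))) := by
  show ((C D).ι.appIso ((C D).ι ⁻¹ᵁ U)).inv ((C D).ι.app U a) • (show Γ(Ω', W D U) from p) = _
  have := ConcreteCategory.congr_hom ((C D).ι.app_appIso_inv U) a
  rw [ConcreteCategory.comp_apply] at this
  rw [this]
  rfl

/-- An equation of a component is invertible on the complement. -/
theorem isUnit_rf {U : X.affineOpens} {g : Γ(X, U.1)} {i : Fin r} (hg : (D i).ideal U = Ideal.span {g}) :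
    IsUnit (rf (W_le D U.1) g) := by
  have hle : W D U.1 ≤ X.basicOpen g := fun y hy => by
    rw [W_eq] at hy
    by_contra hne
    refine hy.1 (Set.mem_iUnion.2 ⟨i, (Scheme.IdealSheafData.mem_supportSet_iff_of_mem hy.2).2 ?_⟩)
    rw [hg, Scheme.mem_zeroLocus_iff]
    intro t ht hyt
    obtain ⟨c, rfl⟩ := Ideal.mem_span_singleton'.1 ht
    rw [Scheme.basicOpen_mul] at hyt
    exact hne hyt.2
  have h1 := (RingedSpace.isUnit_res_basicOpen X.toLocallyRingedSpace.toRingedSpace g).map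
    (X.presheaf.map (homOfLE hle).op).hom
  convert h1 using 1
  exact (TensorMod.Dual.rf_rf (X.basicOpen_le g) hle g).symm

theorem smul_bijective {U : X.affineOpens} {g : Γ(X, U.1)} {i : Fin r} (hg : (D i).ideal U = Ideal.span {g}) :
    Function.Bijective fun p : Γ(P Ω' D, U.1) => g • p := by
  obtain ⟨u, hu⟩ := isUnit_rf D hg
  constructor
  · intro p q h
    have h' : rf (W_le D U.1) g • (show Γ(Ω', W D U.1) from p) = rf (W_le D U.1) g • (show Γ(Ω', W D U.1) from q) :=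
      (smul_def D g p).symm.trans (h.trans (smul_def D g q))
    have key : ∀ t : Γ(Ω', W D U.1), (↑u⁻¹ : Γ(X, W D U.1)) • rf (W_le D U.1) g • t = t := fun t => by
      rw [smul_smul, ← hu, Units.inv_mul, one_smul]
    exact (key _).symm.trans ((congrArg ((↑u⁻¹ : Γ(X, W D U.1)) • ·) h').trans (key _))
  · intro p
    refine ⟨(show Γ(P Ω' D, U.1) from ((↑u⁻¹ : Γ(X, W D U.1)) • (show Γ(Ω', W D U.1) from p))), ?_⟩
    refine (smul_def D g _).trans ?_
    exact (smul_smul (rf (W_le D U.1) g) (↑u⁻¹ : Γ(X, W D U.1)) (show Γ(Ω', W D U.1) from p)).trans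
      (by rw [← hu, Units.mul_inv]; exact one_smul _ _)

/-- The charts. -/
def Pr (U : X.affineOpens) : Prop := ∃ g : Fin r → Γ(X, U.1), ∀ k, (D k).ideal U = Ideal.span {g k}

theorem pr_basis (hD : LogNCD.IsNCD D f) {V : X.Opens} {x : X} (hx : x ∈ V) :
    ∃ U : X.affineOpens, Pr D U ∧ U.1 ≤ V ∧ x ∈ U.1 := by
  obtain ⟨U, hxU, hUV, g, hg⟩ := exists_chart D hD x hx
  exact ⟨U, ⟨g, hg⟩, hUV, hxU⟩

theorem exists_dlog (U : X.affineOpens) {g : Γ(X, U.1)} {i : Fin r} (hg : (D i).ideal U = Ideal.span {g}) :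
    ∃ z : Γ(P Ω' D, U.1), g • z = (η Ω' D).app U.1 (d.app U.1 g) :=
  (smul_bijective D hg).2 _

/-- The class of `dg/g` does not depend on the equation. -/
theorem dlog_indep (U : X.affineOpens) {g g' : Γ(X, U.1)} {i : Fin r}
    (hg : (D i).ideal U = Ideal.span {g}) (hg' : (D i).ideal U = Ideal.span {g'})
    {z z' : Γ(P Ω' D, U.1)} (hz : g • z = (η Ω' D).app U.1 (d.app U.1 g))
    (hz' : g' • z' = (η Ω' D).app U.1 (d.app U.1 g')) :
    (cokernel.π (η Ω' D)).app U.1 z' = (cokernel.π (η Ω' D)).app U.1 z := by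
  obtain ⟨u, hu⟩ := Ideal.mem_span_singleton'.1 (hg ▸ hg'.symm ▸ Ideal.mem_span_singleton_self g' : g' ∈ Ideal.span {g})
  obtain ⟨v, hv⟩ := Ideal.mem_span_singleton'.1 (hg'.symm.trans hg ▸ Ideal.mem_span_singleton_self g : g ∈ Ideal.span {g'})
  let du : Γ(Ω', U.1) := d.app U.1 u
  let dg : Γ(Ω', U.1) := d.app U.1 g
  have hd' : (d.app U.1 g' : Γ(Ω', U.1)) = u • dg + g • du := by
    rw [← hu]
    exact PresheafOfModules.Derivation.d_mul d u g
  have h1 : g' • (z' - z) = g' • (v • (η Ω' D).app U.1 du) := by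
    rw [smul_sub, hz', hd', map_add, happ, happ, ← hz, smul_smul, hu, add_sub_cancel_left, smul_smul,
      mul_comm g' v, hv]
  have h2 := (smul_bijective D hg').1 h1
  rw [sub_eq_iff_eq_add] at h2
  rw [h2, map_add, ← happ, ← hcomp, cokernel.condition, Scheme.Modules.Hom.zero_app]
  exact zero_add _

theorem dlog_rs {U V : X.affineOpens} (h : V.1 ≤ U.1) {g : Γ(X, U.1)} {z : Γ(P Ω' D, U.1)}
    (hz : g • z = (η Ω' D).app U.1 (d.app U.1 g)) :
    rf h g • rs (P Ω' D) h z = (η Ω' D).app V.1 (d.app V.1 (rf h g)) := by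
  have hn : (rs Ω' h (d.app U.1 g : Γ(Ω', U.1))) = d.app V.1 (rf h g) :=
    (PresheafOfModules.Derivation.d_map d (homOfLE h).op g).symm
  rw [← rs_smul, hz, ← hn]
  exact (ClSub.Basis.map_app (η Ω' D) h _).symm

/-- The connecting map `O_{D_i} → P/Ω'`. -/
theorem exists_delta (hD : LogNCD.IsNCD D f) (i : Fin r) :
    ∃ δ : ClSub.quotMod (D i) ⟶ cokernel (η Ω' D), ∀ (U : X.affineOpens) (g : Γ(X, U.1)),
      Pr D U → (D i).ideal U = Ideal.span {g} → ∀ z : Γ(P Ω' D, U.1),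
        g • z = (η Ω' D).app U.1 (d.app U.1 g) →
          δ.app U.1 (LogNCD.oneOn (D i) U.1) = (cokernel.π (η Ω' D)).app U.1 z := by
  have hval : ∀ (U : X.affineOpens) (pU : Pr D U), ∃ c : Γ(cokernel (η Ω' D), U.1),
      (∀ (g : Γ(X, U.1)), (D i).ideal U = Ideal.span {g} → ∀ z : Γ(P Ω' D, U.1),
        g • z = (η Ω' D).app U.1 (d.app U.1 g) → (cokernel.π (η Ω' D)).app U.1 z = c) ∧
      ∀ a ∈ (D i).ideal U, a • c = 0 := fun U pU => by
    obtain ⟨g, hg⟩ := pU
    obtain ⟨z, hz⟩ := exists_dlog d D U (hg i)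
    refine ⟨(cokernel.π (η Ω' D)).app U.1 z, fun g' hg' z' hz' => dlog_indep d D U (hg i) hg' hz hz', ?_⟩
    intro a ha
    obtain ⟨b, rfl⟩ := Ideal.mem_span_singleton'.1 (hg i ▸ ha)
    rw [← happ, mul_smul, hz, ← happ, ← hcomp, cokernel.condition, Scheme.Modules.Hom.zero_app]
    rfl
  choose c hc hc0 using hval
  have hex : ∀ (U : X.affineOpens) (q : Γ(ClSub.quotMod (D i), U.1)),
      ∃ a : Γ(X, U.1), (a • LogNCD.oneOn (D i) U.1 : Γ(ClSub.quotMod (D i), U.1)) = q :=
    fun U q => quot_exists_smul_one (D i) U q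
  choose a ha using hex
  have hwd : ∀ (U : X.affineOpens) (pU : Pr D U) (q : Γ(ClSub.quotMod (D i), U.1)) (b : Γ(X, U.1)),
      (b • LogNCD.oneOn (D i) U.1 : Γ(ClSub.quotMod (D i), U.1)) = q → a U q • c U pU = b • c U pU := by
    intro U pU q b hb
    rw [← sub_eq_zero, ← sub_smul]
    refine hc0 U pU _ (quot_smul_one_eq_zero (D i) U ?_)
    rw [sub_smul, sub_eq_zero]
    exact (ha U q).trans hb.symm
  let φ : ∀ U : X.affineOpens, Pr D U → Γ(ClSub.quotMod (D i), U.1) →ₗ[Γ(X, U.1)] Γ(cokernel (η Ω' D), U.1) :=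
    fun U pU =>
    { toFun := fun q => a U q • c U pU
      map_add' := fun q q' => (hwd U pU _ (a U q + a U q') (by rw [add_smul]; exact congrArg₂ (· + ·) (ha U q) (ha U q'))).trans (add_smul _ _ _)
      map_smul' := fun t q => (hwd U pU _ (t * a U q) (by rw [mul_smul]; exact congrArg (t • ·) (ha U q))).trans (mul_smul _ _ _) }
  obtain ⟨δ, hδ⟩ := BasisHom.exists_hom (Pr D) (pr_basis D hD) φ fun U V pU pV h q => by
    show rs _ h (a U q • c U pU) = a V _ • c V pV
    obtain ⟨g, hg⟩ := id pU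
    obtain ⟨z, hz⟩ := exists_dlog d D U (hg i)
    have hcV : rs _ h (c U pU) = c V pV := by
      rw [← hc U pU _ (hg i) z hz, ← hc V pV _ (SubLog.ideal_restrict _ h (hg i)) _ (dlog_rs d D h hz)]
      exact (ClSub.Basis.map_app (cokernel.π (η Ω' D)) h z).symm
    rw [rs_smul, hcV]
    refine (hwd V pV _ _ ?_).symm
    refine Eq.trans ?_ (congrArg (rs (ClSub.quotMod (D i)) h) (ha U q))
    refine Eq.trans ?_ (rs_smul (ClSub.quotMod (D i)) h (a U q) (LogNCD.oneOn (D i) U.1)).symm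
    refine congrArg (rf h (a U q) • ·) ?_
    refine Eq.trans ?_ (ClSub.Basis.map_app (ClSub.toSubscheme (D i)) h (OmegaSh.strSect X U.1 1))
    show (ClSub.toSubscheme (D i)).app V.1 (OmegaSh.strSect X V.1 1) = _
    exact congrArg _ (map_one (X.presheaf.map (homOfLE h).op).hom).symm
  refine ⟨δ, fun U g pU hg z hz => ?_⟩
  rw [hδ U pU]
  refine (hwd U pU _ 1 (one_smul _ _)).trans ?_
  rw [one_smul]
  exact (hc U pU g hg z hz).symm

/-- Restriction to the complement is injective. -/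
theorem mono_η [Smooth f] (hd : OmegaSh.IsUniversal d) (hD : LogNCD.IsNCD D f) : Mono (η Ω' D) := by
  classical
  rw [mono_iff_stalk_injective]
  refine fun x => ClSub.Basis.stalk_injective_of_basis _ x fun V hx => ?_
  obtain ⟨n, U₁, b₁, hxU₁, hb₁⟩ := Frame.exists_free hd x
  obtain ⟨U, g, b, ε, hxU, hUV, hg, hb, -, -, -, hreg⟩ := Frame.exists_frame' hd hD x hx hxU₁ hb₁
  refine ⟨U.1, hUV, hxU, (injective_iff_map_eq_zero _).2 fun w hw => ?_⟩
  have hw' : rs Ω' (W_le D U.1) w = 0 := by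
    exact hw
  obtain ⟨a, rfl⟩ := (hb U.1 le_rfl).2 w
  have hG : IsRegular (∏ k, g k) := IsRegular.prod fun k _ => hreg k
  have hle : X.basicOpen (∏ k, g k) ≤ W D U.1 := fun y hy => by
    rw [W_eq]
    refine ⟨fun hyC => ?_, X.basicOpen_le _ hy⟩
    obtain ⟨i, hi⟩ := Set.mem_iUnion.1 hyC
    have hyU := X.basicOpen_le _ hy
    have := (Scheme.IdealSheafData.mem_supportSet_iff_of_mem hyU).1 hi
    rw [Scheme.mem_zeroLocus_iff] at this
    refine this (g i) (hg i ▸ Ideal.mem_span_singleton_self _) ?_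
    rw [← Finset.mul_prod_erase _ _ (Finset.mem_univ i), Scheme.basicOpen_mul] at hy
    exact hy.1
  have h2 : TensorMod.Basis.comb b (X.basicOpen_le (∏ k, g k)) (fun k => rf (X.basicOpen_le _) (a k)) = 0 := by
    have := congrArg (rs Ω' hle) hw'
    rw [rs0, rs_rs] at this
    rw [← this]
    simp only [TensorMod.Basis.comb, TensorMod.Basis.rs_sum, rs_smul, rs_rs]
  have h3 := @(hb _ (X.basicOpen_le _)).1 _ 0 (h2.trans (by simp [TensorMod.Basis.comb]))
  haveI := U.2.isLocalization_basicOpen (∏ k, g k)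
  have hinj : Function.Injective (rf (X.basicOpen_le (∏ k, g k))) :=
    IsLocalization.injective (M := Submonoid.powers (∏ k, g k)) (S := Γ(X, X.basicOpen (∏ k, g k)))
      (Submonoid.powers_le.2 (mem_nonZeroDivisors_iff_right.2 fun y hy => hG.right (hy.trans (zero_mul _).symm)))
  simp only [TensorMod.Basis.comb]
  refine Finset.sum_eq_zero fun k _ => ?_
  rw [hinj ((congrFun h3 k).trans (map_zero _).symm), zero_smul]

theorem exists_of_π_eq_zero [Mono (η Ω' D)] (U : X.Opens) (p : Γ(P Ω' D, U))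
    (h : (cokernel.π (η Ω' D)).app U p = 0) : ∃ w, (η Ω' D).app U w = p := by
  obtain ⟨n, rfl⟩ := exists_kernel_ι_app_eq (cokernel.π (η Ω' D)) U p h
  refine ⟨(Abelian.monoLift (η Ω' D) (kernel.ι (cokernel.π (η Ω' D))) (kernel.condition _)).app U n, ?_⟩
  rw [← hcomp, Abelian.monoLift_comp]

/-- Coefficients of log differentials are unique. -/
theorem coeff_mem [Smooth f] (hd : OmegaSh.IsUniversal d) (hD : LogNCD.IsNCD D f) [Mono (η Ω' D)]
    (x : X) {O : X.affineOpens} (hx : x ∈ O.1) (gO : Fin r → Γ(X, O.1))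
    (hgO : ∀ k, (D k).ideal O = Ideal.span {gO k}) (z : Fin r → Γ(P Ω' D, O.1))
    (hz : ∀ k, gO k • z k = (η Ω' D).app O.1 (d.app O.1 (gO k))) (a : Fin r → Γ(X, O.1))
    (h : (cokernel.π (η Ω' D)).app O.1 (∑ k, a k • z k) = 0) :
    ∃ (U : X.affineOpens) (hU : U.1 ≤ O.1), x ∈ U.1 ∧ ∀ k, rf hU (a k) ∈ (D k).ideal U := by
  classical
  obtain ⟨n, U₁, b₁, hxU₁, hb₁⟩ := Frame.exists_free hd x
  obtain ⟨U, g, b, ε, hxU, hUO, hg, hb, hε, hg1, hbε, hreg⟩ := Frame.exists_frame' hd hD x hx hxU₁ hb₁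
  refine ⟨U, hUO, hxU, fun i => ?_⟩
  rw [hg i]
  by_cases hi : x ∈ (D i).support
  swap
  · rw [hg1 i hi, Ideal.span_singleton_one]; trivial
  have hv : ∀ k, ∃ zk : Γ(P Ω' D, U.1), g k • zk = (η Ω' D).app U.1 (d.app U.1 (g k)) :=
    fun k => exists_dlog d D U (hg k)
  choose zU hzU using hv
  let aU : Fin r → Γ(X, U.1) := fun k => rf hUO (a k)
  have h1 : (cokernel.π (η Ω' D)).app U.1 (∑ k, aU k • zU k) = 0 := by
    have h0 := congrArg (rs (cokernel (η Ω' D)) hUO) h
    rw [rs0] at h0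
    rw [← h0, map_sum, map_sum, TensorMod.Basis.rs_sum]
    refine Finset.sum_congr rfl fun k _ => ?_
    rw [happ, happ, rs_smul,
      dlog_indep d D U (SubLog.ideal_restrict _ hUO (hgO k)) (hg k) (dlog_rs d D hUO (hz k)) (hzU k)]
    exact congrArg _ (ClSub.Basis.map_app (cokernel.π (η Ω' D)) hUO (z k))
  obtain ⟨w, hw⟩ := exists_of_π_eq_zero D U.1 _ h1
  let q : Fin r → Γ(X, U.1) := fun k => ∏ l ∈ Finset.univ.erase k, g l
  have hqg : ∀ k, q k * g k = ∏ l, g l := fun k => by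
    rw [mul_comm]; exact Finset.mul_prod_erase _ _ (Finset.mem_univ k)
  let dg : Fin r → Γ(Ω', U.1) := fun k => d.app U.1 (g k)
  have h2 : ∑ k, (aU k * q k) • dg k = (∏ l, g l) • w := by
    refine SubLog.app_injective (η Ω' D) U.1
      (?_ : (η Ω' D).app U.1 (∑ k, (aU k * q k) • dg k) = (η Ω' D).app U.1 ((∏ l, g l) • w))
    rw [map_sum, happ, hw, Finset.smul_sum]
    refine Finset.sum_congr rfl fun k _ => ?_
    rw [happ, ← hzU k, smul_smul, smul_smul, mul_assoc, hqg, mul_comm]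
  obtain ⟨c, hc⟩ := (hb U.1 le_rfl).2 w
  have h3 : TensorMod.Basis.comb b le_rfl (∑ k : {k : Fin r // x ∈ (D k).support}, Pi.single (ε k) (aU k.1 * q k.1)) =
      TensorMod.Basis.comb b le_rfl (fun j => (∏ l, g l) * c j) := by
    have hR : TensorMod.Basis.comb b le_rfl (fun j => (∏ l, g l) * c j) = (∏ l, g l) • w := by
      rw [← hc]; simp only [TensorMod.Basis.comb, Finset.smul_sum, smul_smul]
    rw [hR, ← h2]
    simp only [TensorMod.Basis.comb, Finset.sum_apply, Finset.sum_smul]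
    rw [Finset.sum_comm, ← Finset.sum_subtype (p := fun k => x ∈ (D k).support)
      (Finset.univ.filter fun k => x ∈ (D k).support) (by simp)
      (fun k => if h : x ∈ (D k).support then
        ∑ j, (Pi.single (ε ⟨k, h⟩) (aU k * q k) : Fin n → Γ(X, U.1)) j • rs Ω' le_rfl (b j) else 0)
      |>.trans (Finset.sum_congr rfl fun k _ => by rw [dif_pos k.2])]
    refine Eq.trans ?_ (Finset.sum_filter_of_ne (p := fun k => x ∈ (D k).support) ?_)
    · refine Finset.sum_congr rfl fun k hk => ?_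
      have hk' : x ∈ (D k).support := (Finset.mem_filter.1 hk).2
      rw [dif_pos hk', Finset.sum_eq_single (ε ⟨k, hk'⟩) (fun l _ hl => by rw [Pi.single_eq_of_ne hl, zero_smul])
        (by simp), Pi.single_eq_same, TensorMod.Dual.rs_self, hbε ⟨k, hk'⟩]
    · intro k _ hne
      by_contra hk
      refine hne ?_
      have : dg k = 0 := by
        show (d.app U.1 (g k) : Γ(Ω', U.1)) = 0
        rw [hg1 k hk]
        exact PresheafOfModules.Derivation.d_one d _
      rw [this, smul_zero]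
  have h4 := congrFun ((hb U.1 le_rfl).1 h3) (ε ⟨i, hi⟩)
  rw [Finset.sum_apply, Finset.sum_eq_single ⟨i, hi⟩ (fun k _ hk => Pi.single_eq_of_ne (hε.ne hk).symm _)
    (by simp), Pi.single_eq_same, ← hqg i] at h4
  have hq : IsRegular (q i) := IsRegular.prod fun k _ => hreg k
  refine Ideal.mem_span_singleton'.2 ⟨c (ε ⟨i, hi⟩), hq.left ?_⟩
  linear_combination -h4

end Groth.Agent.Lib.LogNCD37.Exist
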