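import Groth.Agent.Lib.LogNCD37.SubLog
import Groth.Agent.Lib.KummerSmooth.Main
import Groth.Agent.Lib.EulerSeq.Frame
import Groth.Agent.Lib.Kaehler.SmoothChart
import Groth.Agent.Lib.TensorMod.Basis
import Mathlib.RingTheory.Etale.Kaehler

/-!
Coordinate frames of differentials along a normal crossing divisor; local bases of log differentials.
-/

set_option autoImplicit false
set_option linter.style.haveILetI false

universe u

open CategoryTheory CategoryTheory.Limits AlgebraicGeometry Opposite TopologicalSpace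
open Groth.Agent.Lib.LogNCD37.Basic
open Groth.Agent.Lib.TensorMod.Dual (rs rf rs_rs rs_smul)
open Groth.Agent.Lib.TensorMod.Basis

namespace Groth.Agent.Lib.LogNCD37.Frame

variable {X S : Scheme.{u}} {f : X ⟶ S} {Ω' : X.Modules} {d : OmegaSh.Der f Ω'}

/-- Differentials of etale coordinates form a basis. -/
theorem exists_basis_etale {A B : Type u} [CommRing A] [CommRing B] [Algebra A B] {σ : Type u} [Finite σ]
    (φ : MvPolynomial σ A →+* B) (hφ : φ.comp MvPolynomial.C = algebraMap A B) (het : φ.Etale) :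
    ∃ b : Module.Basis σ B (Ω[B⁄A]), ∀ i, b i = KaehlerDifferential.D A B (φ (MvPolynomial.X i)) := by
  letI := φ.toAlgebra
  haveI : IsScalarTower A (MvPolynomial σ A) B := IsScalarTower.of_algebraMap_eq fun a => (congr($hφ a)).symm
  haveI : Algebra.Etale (MvPolynomial σ A) B := het
  obtain ⟨b₀, hb₀⟩ := EulerSeq.Frame.exists_basis_kaehler (AlgEquiv.refl (R := A) (A₁ := MvPolynomial σ A))
  refine ⟨(Algebra.TensorProduct.basis B b₀).map
    (KaehlerDifferential.tensorKaehlerEquivOfFormallyEtale A (MvPolynomial σ A) B), fun i => ?_⟩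
  rw [Module.Basis.map_apply, Algebra.TensorProduct.basis_apply,
    KaehlerDifferential.tensorKaehlerEquivOfFormallyEtale_apply, KaehlerDifferential.mapBaseChange_tmul, one_smul,
    hb₀, KaehlerDifferential.map_D]
  rfl

theorem comb_le_rfl {U : X.Opens} {m : ℕ} (e : Fin m → Γ(Ω', U)) :
    TensorMod.Basis.comb e le_rfl = fun a : Fin m → Γ(X, U) => ∑ k, a k • e k := by
  funext a
  refine Finset.sum_congr rfl fun k _ => ?_
  rw [TensorMod.Dual.rs_self]

/-- Two frames over a nonempty open have the same length. -/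
theorem length_unique {U : X.Opens} {x : X} (hx : x ∈ U) {m n : ℕ} {e : Fin m → Γ(Ω', U)}
    {e' : Fin n → Γ(Ω', U)} (he : IsBasis e) (he' : IsBasis e') : m = n := by
  haveI : Nontrivial Γ(X, U) := (X.presheaf.germ U x hx).hom.domain_nontrivial
  have h1 := he U le_rfl
  have h2 := he' U le_rfl
  rw [comb_le_rfl] at h1 h2
  let E1 : (Fin m → Γ(X, U)) ≃ₗ[Γ(X, U)] Γ(Ω', U) := LinearEquiv.ofBijective
    (Fintype.linearCombination Γ(X, U) e) (by
      convert h1 using 1
      funext a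
      exact Fintype.linearCombination_apply _ _ _)
  let E2 : (Fin n → Γ(X, U)) ≃ₗ[Γ(X, U)] Γ(Ω', U) := LinearEquiv.ofBijective
    (Fintype.linearCombination Γ(X, U) e') (by
      convert h2 using 1
      funext a
      exact Fintype.linearCombination_apply _ _ _)
  simpa using card_eq_of_linearEquiv Γ(X, U) (E1.trans E2.symm)

variable {r : ℕ} {D : Fin r → X.IdealSheafData}

/-- The image of a variable under an étale map from a polynomial ring is regular. -/
theorem isRegular_of_etale {A B : Type u} [CommRing A] [CommRing B] {σ : Type u}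
    (φ : MvPolynomial σ A →+* B) (het : φ.Etale) (j : σ) : IsRegular (φ (MvPolynomial.X j)) := by
  letI := φ.toAlgebra
  haveI : Algebra.Etale (MvPolynomial σ A) B := het
  have h : IsSMulRegular (MvPolynomial σ A) (MvPolynomial.X j : MvPolynomial σ A) := MvPolynomial.isRegular_X.left
  have h' : IsSMulRegular B (φ (MvPolynomial.X j)) := IsSMulRegular.of_flat (S := B) h
  exact (isLeftRegular_iff_isRegular).1 h'

/-- Frames of differentials adapted to the divisor, from one local frame. -/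
theorem exists_frame' (hd : OmegaSh.IsUniversal d)
    (hD : LogNCD.IsNCD D f) (x : X) {O : X.Opens} (hx : x ∈ O) {n : ℕ} {U₁ : X.Opens} (hxU₁ : x ∈ U₁)
    {b₁ : Fin n → Γ(Ω', U₁)} (hb₁ : IsBasis b₁) :
    ∃ (U : X.affineOpens) (g : Fin r → Γ(X, U.1)) (b : Fin n → Γ(Ω', U.1))
      (ε : {i : Fin r // x ∈ (D i).support} → Fin n),
      x ∈ U.1 ∧ U.1 ≤ O ∧ (∀ i, (D i).ideal U = Ideal.span {g i}) ∧
      IsBasis b ∧ Function.Injective ε ∧ (∀ i, x ∉ (D i).support → g i = 1) ∧
      (∀ i, b (ε i) = d.app U.1 (g i.1)) ∧ ∀ i, IsRegular (g i) := by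
  classical
  by_cases hT : Nonempty (LogNCD.Through D x)
  swap
  · obtain ⟨W, hxW, hWO, -⟩ := exists_principal D hD x (V := O ⊓ U₁) ⟨hx, hxU₁⟩
    let C : Set X := ⋃ i, ((D i).support : Set X)
    have hC : IsClosed C := isClosed_iUnion_of_finite fun i => (D i).support.isClosed
    obtain ⟨U, hU, hxU⟩ := ClSub.Basis.exists_affine_le (x := x)
      (U := W ⊓ ⟨Cᶜ, hC.isOpen_compl⟩) ⟨hxW, fun hxC => by
        obtain ⟨i, hi⟩ := Set.mem_iUnion.1 hxC
        exact hT ⟨⟨i, hi⟩⟩⟩
    have hUU₁ : U.1 ≤ U₁ := fun z hz => (hWO (hU hz).1).2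
    refine ⟨U, fun _ => 1, fun k => rs Ω' hUU₁ (b₁ k), fun i => absurd ⟨i⟩ hT, hxU,
      fun z hz => (hWO (hU hz).1).1, fun i => ?_, hb₁.res hUU₁, fun i => absurd ⟨i⟩ hT, fun _ _ => rfl,
      fun i => absurd ⟨i⟩ hT, fun _ => isRegular_one⟩
    rw [Ideal.span_singleton_one]
    exact ideal_eq_top_of_disjoint _ U fun y hy hyD => (hU hy).2 (Set.mem_iUnion.2 ⟨i, hyD⟩)
  obtain ⟨W, hxW, m, v, e, he, hv, hW1, hW2⟩ := hD x hT
  obtain ⟨_, ⟨V, hV, rfl⟩, hfxV, -⟩ :=
    S.isBasis_affineOpens.exists_subset_of_mem_open (Set.mem_univ (f x)) isOpen_univ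
  obtain ⟨U, hU, hxU⟩ := ClSub.Basis.exists_affine_le (x := x) (U := O ⊓ U₁ ⊓ W ⊓ f ⁻¹ᵁ V)
    ⟨⟨⟨hx, hxU₁⟩, hxW⟩, hfxV⟩
  have hUO : U.1 ≤ O := fun z hz => (hU hz).1.1.1
  have hUU₁ : U.1 ≤ U₁ := fun z hz => (hU hz).1.1.2
  have hUW : U.1 ≤ W := fun z hz => (hU hz).1.2
  have hUV : U.1 ≤ f ⁻¹ᵁ V := fun z hz => (hU hz).2
  let w : ULift.{u} (Fin m) → Γ((U.1 : Scheme.{u}), ⊤) := fun j => (X.homOfLE hUW).appTop (v j)
  haveI : IsAffine (V : Scheme.{u}) := hV
  haveI : IsAffine (U.1 : Scheme.{u}) := U.2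
  have hcomp : AffineSpace.homOfVector (f.resLE V U.1 hUV) w ≫ AffineSpace.map _ (Scheme.Opens.ι V) =
      X.homOfLE hUW ≫ AffineSpace.homOfVector (W.ι ≫ f) v := by
    ext1
    · simp
    · simp [w]
  haveI : IsOpenImmersion (AffineSpace.map (ULift.{u} (Fin m)) (Scheme.Opens.ι V)) :=
    MorphismProperty.of_isPullback (P := @IsOpenImmersion)
      (AffineSpace.isPullback_map (Scheme.Opens.ι V)).flip inferInstance
  have hé : Etale (AffineSpace.homOfVector (f.resLE V U.1 hUV) w) := by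
    haveI := hv
    have : Etale (AffineSpace.homOfVector (f.resLE V U.1 hUV) w ≫ AffineSpace.map _ (Scheme.Opens.ι V)) := by
      rw [hcomp]; infer_instance
    exact Etale.of_comp _ (AffineSpace.map _ (Scheme.Opens.ι V))
  have het := KummerSmooth.Main.etale_eval₂Hom _ w hé
  obtain ⟨K, hK⟩ := Conormal92.OmegaSect.exists_equiv f U.2 hV hUV hd
  letI : Algebra Γ(S, V) Γ(X, U.1) := (f.appLE V U.1 hUV).hom.toAlgebra
  let u : ULift.{u} (Fin m) → Γ(X, U.1) := fun j => LogNCD.sectOn W hUW (v j)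
  have hu : ∀ j, U.1.topIso.hom (w j) = u j := fun j => by
    show U.1.topIso.hom ((X.homOfLE hUW).app ⊤ (v j)) = X.presheaf.map (homOfLE hUW).op (W.topIso.hom (v j))
    show ((X.homOfLE hUW).appTop ≫ U.1.topIso.hom) (v j) = (W.topIso.hom ≫ X.presheaf.map (homOfLE hUW).op) (v j)
    refine ConcreteCategory.congr_hom ?_ (v j)
    simp only [Scheme.Hom.appTop, Scheme.homOfLE_app, Scheme.Opens.topIso, Functor.mapIso_hom, eqToIso.hom]
    exact (X.presheaf.map_comp _ _).symm.trans ((congrArg X.presheaf.map (Subsingleton.elim _ _)).trans (X.presheaf.map_comp _ _))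
  let φ : MvPolynomial (ULift.{u} (Fin m)) Γ(S, V) →+* Γ(X, U.1) := MvPolynomial.eval₂Hom (algebraMap _ _) u
  have hφ : φ.Etale := by
    have e2 : U.1.topIso.hom.hom.comp ((MvPolynomial.eval₂Hom (f.resLE V U.1 hUV).appTop.hom w).comp
        (MvPolynomial.map (Scheme.Opens.topIso V).inv.hom)) = φ := by
      refine MvPolynomial.ringHom_ext (fun a => ?_) fun j => ?_
      · simp only [φ, RingHom.comp_apply, MvPolynomial.map_C, MvPolynomial.eval₂Hom_C]
        show (((Scheme.Opens.topIso V).inv ≫ (f.resLE V U.1 hUV).appTop ≫ U.1.topIso.hom) a) = f.appLE V U.1 hUV a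
        refine ConcreteCategory.congr_hom ?_ a
        simp only [Scheme.Hom.appTop, Scheme.Hom.resLE_app_top, Category.assoc, Iso.inv_hom_id,
          Iso.inv_hom_id_assoc, Category.comp_id]
      · simp only [φ, RingHom.comp_apply, MvPolynomial.map_X, MvPolynomial.eval₂Hom_X']
        exact hu j
    rw [← e2]
    refine RingHom.Etale.stableUnderComposition _ _ (RingHom.Etale.stableUnderComposition _ _ ?_ het) ?_
    · exact RingHom.Etale.of_bijective ⟨MvPolynomial.map_injective _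
        (ConcreteCategory.bijective_of_isIso (Scheme.Opens.topIso V).inv).1, MvPolynomial.map_surjective _
        (ConcreteCategory.bijective_of_isIso (Scheme.Opens.topIso V).inv).2⟩
    · exact RingHom.Etale.of_bijective (ConcreteCategory.bijective_of_isIso U.1.topIso.hom)
  obtain ⟨bK, hbK⟩ := exists_basis_etale φ (RingHom.ext fun a => by simp [φ]) hφ
  let K' : Γ(Ω', U.1) ≃ₗ[Γ(X, U.1)] Ω[Γ(X, U.1)⁄Γ(S, V)] := K
  let b' : Module.Basis (Fin m) Γ(X, U.1) Γ(Ω', U.1) := (bK.reindex Equiv.ulift).map K'.symm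
  haveI := Kaehler.Finite.isQuasicoherent hd
  have hb' : ∀ j, b' j = d.app U.1 (u (ULift.up j)) := fun j => by
    rw [Module.Basis.map_apply, Module.Basis.reindex_apply, hbK, LinearEquiv.symm_apply_eq]
    refine Eq.trans ?_ (hK _).symm
    simp only [φ, MvPolynomial.eval₂Hom_X']
    rfl
  have hB : IsBasis fun k => b' k := BlowPB.Frame.isBasis U.2 b'
  obtain rfl : m = n := length_unique hxU hB (hb₁.res hUU₁)
  refine ⟨U, fun i => if h : x ∈ (D i).support then u (ULift.up (e ⟨i, h⟩)) else 1, fun k => b' k,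
    fun i => e ⟨i.1, i.2⟩, hxU, hUO, fun i => ?_, hB, fun a b h => ?_, fun i hi => ?_, fun i => ?_, fun i => ?_⟩
  · by_cases h : x ∈ (D i).support
    · simp only [dif_pos h]; exact hW1 ⟨i, h⟩ U hUW
    · simp only [dif_neg h, Ideal.span_singleton_one]; exact hW2 i h U hUW
  · exact Subtype.ext (congrArg (fun z : LogNCD.Through D x => z.1) (he h) :)
  · exact dif_neg hi
  · simp only [dif_pos i.2]; exact hb' _
  · by_cases h : x ∈ (D i).support
    · simp only [dif_pos h]
      rw [show u (ULift.up (e ⟨i, h⟩)) = φ (MvPolynomial.X (ULift.up (e ⟨i, h⟩))) by simp [φ]]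
      exact isRegular_of_etale φ hφ _
    · simp only [dif_neg h]; exact isRegular_one

/-- Local frames of the differentials of a smooth morphism. -/
theorem exists_free [Smooth f] (hd : OmegaSh.IsUniversal d) (x : X) :
    ∃ (n : ℕ) (U₁ : X.Opens) (b₁ : Fin n → Γ(Ω', U₁)), x ∈ U₁ ∧ IsBasis b₁ := by
  obtain ⟨U, n, hxU, ⟨i⟩, -⟩ := Kaehler.SmoothChart.exists_free_fibreDim hd x
  obtain ⟨b, hb⟩ := TensorMod.Basis.exists_basis_of_iso i
  exact ⟨n, U, b, hxU, hb⟩

/-- Frames of differentials adapted to the divisor. -/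
theorem exists_frame (n : ℕ) [SmoothOfRelativeDimension n f] (hd : OmegaSh.IsUniversal d)
    (hD : LogNCD.IsNCD D f) (x : X) {O : X.Opens} (hx : x ∈ O) :
    ∃ (U : X.affineOpens) (g : Fin r → Γ(X, U.1)) (b : Fin n → Γ(Ω', U.1))
      (ε : {i : Fin r // x ∈ (D i).support} → Fin n),
      x ∈ U.1 ∧ U.1 ≤ O ∧ (∀ i, (D i).ideal U = Ideal.span {g i}) ∧
      IsBasis b ∧ Function.Injective ε ∧ (∀ i, x ∉ (D i).support → g i = 1) ∧
      (∀ i, b (ε i) = d.app U.1 (g i.1)) ∧ ∀ i, IsRegular (g i) := by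
  obtain ⟨V₁, hV₁, U₁, hU₁, hxU₁, e₁, hs⟩ :=
    SmoothOfRelativeDimension.exists_isStandardSmoothOfRelativeDimension (n := n) (f := f) x
  haveI : Nonempty U₁ := ⟨⟨x, hxU₁⟩⟩
  obtain ⟨i₁⟩ := Kaehler.SmoothChart.nonempty_restrict_free hV₁ hU₁ e₁ hs hd
  obtain ⟨b₁, hb₁⟩ := TensorMod.Basis.exists_basis_of_iso i₁
  exact exists_frame' hd hD x hx hxU₁ hb₁

end Groth.Agent.Lib.LogNCD37.Frame
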