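import Groth.Agent.Lib.LogNCD37.Basic

/-!
Exactness of residue sequences of log modules.
-/

set_option autoImplicit false

universe u

open CategoryTheory CategoryTheory.Limits AlgebraicGeometry Opposite TopologicalSpace
open Groth.Agent.Lib.Modules.Stalk Groth.Agent.Lib.ClSub.Basis Groth.Agent.Lib.LogNCD37.Basic

namespace Groth.Agent.Lib.LogNCD37.Seq

variable {X S : Scheme.{u}} {r : ℕ} {D : Fin r → X.IdealSheafData} {f : X ⟶ S}
  {Ω' : X.Modules} {d : OmegaSh.Der f Ω'}

/-- A morphism into a finite product is epi if every component germ lifts with the other components zero. -/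
theorem epi_pi_lift {L : X.Modules} {Q : Fin r → X.Modules} (res : ∀ i, L ⟶ Q i)
    (h : ∀ (x : X) (j : Fin r) (c : (Q j).presheaf.stalk x), ∃ y : L.presheaf.stalk x,
      (stalkFunctor X x).map (res j) y = c ∧ ∀ i, i ≠ j → (stalkFunctor X x).map (res i) y = 0) :
    Epi (Pi.lift res) := by
  classical
  let ι : ∀ j, Q j ⟶ ∏ᶜ Q := fun j => Pi.lift fun i => if e : j = i then eqToHom (congrArg Q e) else 0
  have hsum : ∑ j, Pi.π Q j ≫ ι j = 𝟙 (∏ᶜ Q) := by
    refine Pi.hom_ext _ _ fun i => ?_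
    rw [Preadditive.sum_comp, Category.id_comp, Finset.sum_eq_single i]
    · simp [ι]
    · intro b _ hb
      simp [ι, hb]
    · intro hi; exact absurd (Finset.mem_univ i) hi
  refine ⟨fun {T} φ ψ hφψ => ?_⟩
  rw [← Category.id_comp φ, ← Category.id_comp ψ, ← hsum, Preadditive.sum_comp, Preadditive.sum_comp]
  refine Finset.sum_congr rfl fun j _ => ?_
  rw [Category.assoc, Category.assoc]
  congr 1
  have hl : ∑ i, res i ≫ ι i = Pi.lift res := by
    calc ∑ i, res i ≫ ι i = ∑ i, Pi.lift res ≫ Pi.π Q i ≫ ι i :=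
          Finset.sum_congr rfl fun i _ => by rw [← Category.assoc, Pi.lift_π]
      _ = Pi.lift res := by rw [← Preadditive.comp_sum, hsum, Category.comp_id]
  refine hom_ext_stalk fun x => ?_
  ext c
  obtain ⟨y, hy, hy0⟩ := h x j c
  have key : ∀ χ : ∏ᶜ Q ⟶ T, (stalkFunctor X x).map (ι j ≫ χ) c =
      (stalkFunctor X x).map (Pi.lift res ≫ χ) y := by
    intro χ
    let E : (L ⟶ T) →+ T.presheaf.stalk x :=
      AddMonoidHom.mk' (fun φ => (stalkFunctor X x).map φ y) fun φ φ' => by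
        rw [Functor.map_add]; rfl
    change _ = E (Pi.lift res ≫ χ)
    rw [← hl, Preadditive.sum_comp, map_sum, Finset.sum_eq_single j]
    all_goals simp only [E, AddMonoidHom.mk'_apply]
    · rw [Category.assoc, Functor.map_comp (stalkFunctor X x) (res j), ConcreteCategory.comp_apply, hy]
    · intro i _ hi
      rw [Category.assoc, Functor.map_comp, ConcreteCategory.comp_apply, hy0 i hi]; exact map_zero _
    · intro hj; exact absurd (Finset.mem_univ j) hj
  rw [key φ, key ψ, hφψ]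

theorem res_lift (hD : LogNCD.IsNCD D f) (Λ : LogNCD.LogMod d D) (x : X) (j : Fin r)
    (c : (ClSub.quotMod (D j)).presheaf.stalk x) : ∃ y : Λ.L.presheaf.stalk x,
      (stalkFunctor X x).map (Λ.res j) y = c ∧ ∀ i, i ≠ j → (stalkFunctor X x).map (Λ.res i) y = 0 := by
  obtain ⟨V, hxV, q, rfl⟩ := (ClSub.quotMod (D j)).presheaf.exists_germ_eq c
  obtain ⟨U, hxU, hUV, g, hg⟩ := exists_chart D hD x hxV
  obtain ⟨-, dl, -, -, h1, h2⟩ := Λ.rule U g hg
  obtain ⟨a, ha⟩ := quot_exists_smul_one (D j) U ((ClSub.quotMod (D j)).presheaf.map (homOfLE hUV).op q)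
  refine ⟨Λ.L.presheaf.germ U.1 x hxU (a • dl j), ?_, fun i hi => ?_⟩
  · rw [stalkFunctor_map_germ, ← germ_map hUV hxU q]
    congr 1
    exact ((app_smul _ _ _ _).trans (congrArg (a • ·) (h1 j))).trans ha
  · rw [stalkFunctor_map_germ]
    refine (congrArg _ ?_).trans (map_zero _)
    exact (app_smul _ _ _ _).trans ((congrArg (a • ·) (h2 j i (Ne.symm hi))).trans (smul_zero a))

/-- If all residues of a section vanish on a chart, it is a form without poles. -/
theorem exists_ι_eq (Λ : LogNCD.LogMod d D) (U : X.affineOpens) (g : Fin r → Γ(X, U.1))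
    (hg : ∀ i, (D i).ideal U = Ideal.span {g i}) (m : Λ.L.val.obj (op U.1))
    (hm : ∀ i, ((Λ.res i).val.app (op U.1)).hom m = 0) :
    ∃ w, (Λ.ι.val.app (op U.1)).hom w = m := by
  obtain ⟨-, dl, hdl, hspan, h1, h2⟩ := Λ.rule U g hg
  obtain ⟨w, a, rfl⟩ := exists_decomp Λ dl hspan m
  have ha : ∀ i, ∃ b, a i = b * g i := fun i => by
    have h := hm i
    rw [res_sum Λ w a dl h1 h2 i] at h
    obtain ⟨b, hb⟩ := Ideal.mem_span_singleton'.1 (hg i ▸ quot_smul_one_eq_zero (D i) U h)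
    exact ⟨b, hb.symm⟩
  choose b hb using ha
  let η : Fin r → Ω'.val.obj (op U.1) := fun i => d.app U.1 (g i)
  refine ⟨w + ∑ i, b i • η i, ?_⟩
  rw [map_add, map_sum]
  congr 1
  refine Finset.sum_congr rfl fun i _ => ?_
  rw [app_smul, show (Λ.ι.val.app (op U.1)).hom (η i) = g i • dl i from (hdl i).symm, smul_smul, ← hb i]

theorem residue_shortExact (hD : LogNCD.IsNCD D f) (Λ : LogNCD.LogMod d D)
    (h : Λ.ι ≫ Pi.lift Λ.res = 0) : (ShortComplex.mk Λ.ι (Pi.lift Λ.res) h).ShortExact := by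
  haveI := Λ.mono
  haveI : Epi (Pi.lift Λ.res) := epi_pi_lift Λ.res (res_lift hD Λ)
  refine ShortComplex.ShortExact.mk' ?_ inferInstance inferInstance
  rw [exact_iff_stalk]
  intro x
  rw [ShortComplex.ab_exact_iff]
  intro y hy
  obtain ⟨V, hxV, m, rfl⟩ := Λ.L.presheaf.exists_germ_eq y
  have hz : ∀ i, ∃ W : X.Opens, ∃ hW : W ≤ V, x ∈ W ∧
      (ClSub.quotMod (D i)).presheaf.map (homOfLE hW).op ((Λ.res i).app V m) = 0 := fun i => by
    refine exists_zero_nhd V x hxV _ ?_
    rw [← stalkFunctor_map_germ, ← Pi.lift_π Λ.res i, Functor.map_comp, ConcreteCategory.comp_apply]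
    exact (congrArg _ hy).trans (map_zero _)
  choose W hW hxW hres using hz
  let V' : X.Opens := ⟨(V : Set X) ∩ ⋂ i, (W i : Set X),
    V.2.inter (isOpen_iInter_of_finite fun i => (W i).2)⟩
  obtain ⟨U, hxU, hUV', g, hg⟩ := exists_chart D hD x (V := V') ⟨hxV, Set.mem_iInter.2 hxW⟩
  have hUV : U.1 ≤ V := fun z hz => (hUV' hz).1
  obtain ⟨w, hw⟩ := exists_ι_eq Λ U g hg (Λ.L.presheaf.map (homOfLE hUV).op m) fun i => by
    change (Λ.res i).app U.1 _ = 0
    have hUW : U.1 ≤ W i := fun z hz => Set.mem_iInter.1 (hUV' hz).2 i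
    rw [ClSub.Basis.map_app]
    have := congrArg ((ClSub.quotMod (D i)).presheaf.map (homOfLE hUW).op) (hres i)
    rw [map_zero, ← ConcreteCategory.comp_apply, ← Functor.map_comp, ← op_comp] at this
    exact this
  refine ⟨Ω'.presheaf.germ U.1 x hxU w, ?_⟩
  refine (stalkFunctor_map_germ x Λ.ι hxU w).trans ?_
  rw [← germ_map hUV hxU m]
  exact congrArg _ hw

end Groth.Agent.Lib.LogNCD37.Seq
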