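import Groth.Agent.Lib.LogNCD37.Seq
import Groth.Agent.Lib.LogNCD37.BasisHom
import Mathlib.Algebra.BigOperators.Fin

/-!
The log module of a divisor with one component removed.
-/

set_option autoImplicit false

universe u

open CategoryTheory CategoryTheory.Limits AlgebraicGeometry Opposite TopologicalSpace
open Groth.Agent.Lib.Modules.Stalk Groth.Agent.Lib.LogNCD37.Basic Groth.Agent.Lib.LogNCD37.Seq
open Groth.Agent.Lib.TensorMod.Dual (rs rf rs_rs rs_smul)

namespace Groth.Agent.Lib.LogNCD37.SubLog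

variable {X S : Scheme.{u}} {f : X ⟶ S} {Ω' : X.Modules} {d : OmegaSh.Der f Ω'}

theorem app_injective {M N : X.Modules} (φ : M ⟶ N) [Mono φ] (U : X.Opens) :
    Function.Injective ((φ.val.app (op U)).hom) := by
  intro a b hab
  refine TopCat.Presheaf.section_ext (⟨M.presheaf, M.isSheaf⟩ : TopCat.Sheaf AddCommGrpCat.{u} X) U a b
    fun x hx => ?_
  refine (mono_iff_stalk_injective φ).1 inferInstance x ?_
  rw [stalkFunctor_map_germ, stalkFunctor_map_germ]
  exact congrArg _ hab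

theorem ideal_restrict (I : X.IdealSheafData) {U V : X.affineOpens} (h : V.1 ≤ U.1) {a : Γ(X, U.1)}
    (ha : I.ideal U = Ideal.span {a}) : I.ideal V = Ideal.span {X.presheaf.map (homOfLE h).op a} := by
  rw [← I.map_ideal (U := V) (V := U) h, ha, Ideal.map_span, Set.image_singleton]
  rfl

variable {r : ℕ} {D : Fin (r + 1) → X.IdealSheafData} {i : Fin (r + 1)}
  (Λ : LogNCD.LogMod d D) (Λ' : LogNCD.LogMod d (D ∘ i.succAbove))

/-- `m` is the image of `m'`, tested with the multiplier `G`. -/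
def Rel (U : X.Opens) (G : Γ(X, U)) (m' : Λ'.L.val.obj (op U)) (m : Λ.L.val.obj (op U)) : Prop :=
  ∃ w : Ω'.val.obj (op U), G • m' = (Λ'.ι.val.app (op U)).hom w ∧ G • m = (Λ.ι.val.app (op U)).hom w

variable {Λ Λ'}

theorem rel_unique {U : X.Opens} {G G' : Γ(X, U)} {m' : Λ'.L.val.obj (op U)} {m m₂ : Λ.L.val.obj (op U)}
    (hG : ∀ x : Λ.L.val.obj (op U), G • x = 0 → x = 0) (hG' : ∀ x : Λ.L.val.obj (op U), G' • x = 0 → x = 0)
    (h : Rel Λ Λ' U G m' m) (h₂ : Rel Λ Λ' U G' m' m₂) : m = m₂ := by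
  obtain ⟨w, hw', hw⟩ := h
  obtain ⟨v, hv', hv⟩ := h₂
  haveI := Λ'.mono
  have e : G' • w = G • v := app_injective Λ'.ι U (by
    rw [app_smul, app_smul, ← hw', ← hv', smul_smul, smul_smul, mul_comm])
  refine sub_eq_zero.1 (hG _ (hG' _ ?_))
  rw [smul_sub, smul_sub, smul_smul, smul_smul, mul_comm G' G, sub_eq_zero, mul_comm G G', mul_smul,
    hw, ← app_smul, e, app_smul, ← hv, smul_smul, mul_comm]

theorem rel_rs {U V : X.Opens} (h : V ≤ U) {G : Γ(X, U)} {m' : Λ'.L.val.obj (op U)}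
    {m : Λ.L.val.obj (op U)} (hr : Rel Λ Λ' U G m' m) :
    Rel Λ Λ' V (X.presheaf.map (homOfLE h).op G) (rs Λ'.L h m') (rs Λ.L h m) := by
  obtain ⟨w, hw', hw⟩ := hr
  refine ⟨rs Ω' h w, ?_, ?_⟩
  · exact ((rs_smul Λ'.L h G m').symm.trans (congrArg (rs Λ'.L h) hw')).trans
      (ClSub.Basis.map_app Λ'.ι h w).symm
  · exact ((rs_smul Λ.L h G m).symm.trans (congrArg (rs Λ.L h) hw)).trans
      (ClSub.Basis.map_app Λ.ι h w).symm

theorem rel_add {U : X.Opens} {G : Γ(X, U)} {a' b' : Λ'.L.val.obj (op U)} {a b : Λ.L.val.obj (op U)}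
    (ha : Rel Λ Λ' U G a' a) (hb : Rel Λ Λ' U G b' b) : Rel Λ Λ' U G (a' + b') (a + b) := by
  obtain ⟨w, hw', hw⟩ := ha
  obtain ⟨v, hv', hv⟩ := hb
  exact ⟨w + v, by rw [smul_add, hw', hv', map_add], by rw [smul_add, hw, hv, map_add]⟩

theorem rel_smul {U : X.Opens} {G : Γ(X, U)} (c : Γ(X, U)) {a' : Λ'.L.val.obj (op U)}
    {a : Λ.L.val.obj (op U)} (ha : Rel Λ Λ' U G a' a) : Rel Λ Λ' U G (c • a') (c • a) := by
  obtain ⟨w, hw', hw⟩ := ha
  exact ⟨c • w, by rw [smul_comm, hw', app_smul], by rw [smul_comm, hw, app_smul]⟩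

theorem rel_zero {U : X.Opens} (G : Γ(X, U)) : Rel Λ Λ' U G 0 0 :=
  ⟨0, by rw [smul_zero, map_zero], by rw [smul_zero, map_zero]⟩

theorem rel_ι {U : X.Opens} (G : Γ(X, U)) (w : Ω'.val.obj (op U)) :
    Rel Λ Λ' U G ((Λ'.ι.val.app (op U)).hom w) ((Λ.ι.val.app (op U)).hom w) :=
  ⟨G • w, (app_smul _ _ _ _).symm, (app_smul _ _ _ _).symm⟩

theorem prod_eq {U : X.Opens} (g : Fin (r + 1) → Γ(X, U)) (j : Fin r) :
    ∃ q, ∏ k, g k = q * g (i.succAbove j) :=
  ⟨∏ k ∈ Finset.univ.erase (i.succAbove j), g k, by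
    rw [mul_comm, Finset.mul_prod_erase _ _ (Finset.mem_univ _)]⟩

/-- Standard generators correspond. -/
theorem rel_gen {U : X.affineOpens} (g : Fin (r + 1) → Γ(X, U.1)) (dl : Fin (r + 1) → Λ.L.val.obj (op U.1))
    (dl' : Fin r → Λ'.L.val.obj (op U.1))
    (hdl : ∀ k, g k • dl k = (Λ.ι.val.app (op U.1)).hom (d.app U.1 (g k)))
    (hdl' : ∀ j, g (i.succAbove j) • dl' j = (Λ'.ι.val.app (op U.1)).hom (d.app U.1 (g (i.succAbove j))))
    (w : Ω'.val.obj (op U.1)) (a : Fin r → Γ(X, U.1)) :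
    Rel Λ Λ' U.1 (∏ k, g k) ((Λ'.ι.val.app (op U.1)).hom w + ∑ j, a j • dl' j)
      ((Λ.ι.val.app (op U.1)).hom w + ∑ j, a j • dl (i.succAbove j)) := by
  classical
  refine rel_add (rel_ι _ w) ?_
  induction (Finset.univ : Finset (Fin r)) using Finset.induction_on with
  | empty => rw [Finset.sum_empty, Finset.sum_empty]; exact rel_zero _
  | insert j s hj ih =>
    rw [Finset.sum_insert hj, Finset.sum_insert hj]
    refine rel_add (rel_smul _ ?_) ih
    obtain ⟨q, hq⟩ := prod_eq (i := i) g j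
    let η : Ω'.val.obj (op U.1) := d.app U.1 (g (i.succAbove j))
    refine ⟨q • η, ?_, ?_⟩
    · rw [hq, mul_smul, hdl' j, app_smul]
    · rw [hq, mul_smul, hdl _, app_smul]

/-- The charts. -/
def P (D : Fin (r + 1) → X.IdealSheafData) (U : X.affineOpens) : Prop :=
  ∃ g : Fin (r + 1) → Γ(X, U.1), ∀ k, (D k).ideal U = Ideal.span {g k}

theorem exists_rel (U : X.affineOpens) (g : Fin (r + 1) → Γ(X, U.1))
    (hg : ∀ k, (D k).ideal U = Ideal.span {g k}) (m' : Λ'.L.val.obj (op U.1)) :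
    ∃ m, Rel Λ Λ' U.1 (∏ k, g k) m' m := by
  obtain ⟨-, dl, hdl, -, -, -⟩ := Λ.rule U g hg
  obtain ⟨-, dl', hdl', hspan, -, -⟩ := Λ'.rule U (g ∘ i.succAbove) fun j => hg _
  obtain ⟨w, a, rfl⟩ := exists_decomp Λ' dl' hspan m'
  exact ⟨_, rel_gen g dl dl' hdl hdl' w a⟩

theorem regular (U : X.affineOpens) (g : Fin (r + 1) → Γ(X, U.1))
    (hg : ∀ k, (D k).ideal U = Ideal.span {g k}) :
    ∀ x : Λ.L.val.obj (op U.1), (∏ k, g k) • x = 0 → x = 0 := (Λ.rule U g hg).1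

/-- A sublog map takes the value prescribed on charts. -/
theorem rel_app (κ : Λ'.L ⟶ Λ.L) (hκ : LogNCD.IsSubLog Λ' Λ κ) (U : X.affineOpens)
    (g : Fin (r + 1) → Γ(X, U.1)) (hg : ∀ k, (D k).ideal U = Ideal.span {g k})
    (m' : Λ'.L.val.obj (op U.1)) :
    Rel Λ Λ' U.1 (∏ k, g k) m' ((κ.val.app (op U.1)).hom m') := by
  obtain ⟨m, w, hw', hw⟩ := exists_rel (Λ := Λ) U g hg m'
  refine ⟨w, hw', ?_⟩
  rw [← app_smul, hw']
  exact congrArg (fun φ : Ω' ⟶ Λ.L => (φ.val.app (op U.1)).hom w) hκ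

theorem exists_sublog (hD : LogNCD.IsNCD D f) : ∃ κ : Λ'.L ⟶ Λ.L, LogNCD.IsSubLog Λ' Λ κ := by
  have hP : ∀ {V : X.Opens} {x : X}, x ∈ V → ∃ U : X.affineOpens, P D U ∧ U.1 ≤ V ∧ x ∈ U.1 := fun hx => by
    obtain ⟨U, hxU, hUV, g, hg⟩ := exists_chart D hD _ hx
    exact ⟨U, ⟨g, hg⟩, hUV, hxU⟩
  have hval : ∀ (U : X.affineOpens) (pU : P D U) (m' : Λ'.L.val.obj (op U.1)),
      ∃ m, Rel Λ Λ' U.1 (∏ k, pU.choose k) m' m := fun U pU => exists_rel U _ pU.choose_spec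
  choose v hv using hval
  let φ : ∀ U : X.affineOpens, P D U → Γ(Λ'.L, U.1) →ₗ[Γ(X, U.1)] Γ(Λ.L, U.1) := fun U pU =>
    { toFun := v U pU
      map_add' := fun a b => rel_unique (regular U _ pU.choose_spec) (regular U _ pU.choose_spec)
        (hv U pU _) (rel_add (hv U pU a) (hv U pU b))
      map_smul' := fun c a => rel_unique (regular U _ pU.choose_spec) (regular U _ pU.choose_spec)
        (hv U pU _) (rel_smul c (hv U pU a)) }
  obtain ⟨κ, hκ⟩ := BasisHom.exists_hom (P D) hP φ fun U V pU pV h m => by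
    refine rel_unique (G := X.presheaf.map (homOfLE h).op (∏ k, pU.choose k)) ?_
      (regular V _ pV.choose_spec) (rel_rs h (hv U pU m)) (hv V pV _)
    rw [map_prod]
    exact regular V _ fun k => ideal_restrict _ h (pU.choose_spec k)
  refine ⟨κ, ?_⟩
  refine hom_ext_stalk fun x => ?_
  ext c
  obtain ⟨V, hxV, s, rfl⟩ := Ω'.presheaf.exists_germ_eq c
  obtain ⟨U, pU, hUV, hxU⟩ := hP hxV
  rw [← ClSub.Basis.germ_map hUV hxU s, stalkFunctor_map_germ, stalkFunctor_map_germ]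
  congr 1
  exact (hκ U pU _).trans (rel_unique (regular U _ pU.choose_spec) (regular U _ pU.choose_spec)
    (hv U pU _) (rel_ι _ _))

theorem shortExact (hD : LogNCD.IsNCD D f) (κ : Λ'.L ⟶ Λ.L) (hκ : LogNCD.IsSubLog Λ' Λ κ)
    (h : κ ≫ Λ.res i = 0) : (ShortComplex.mk κ (Λ.res i) h).ShortExact := by
  haveI : Mono κ := by
    rw [mono_iff_stalk_injective]
    refine fun x => ClSub.Basis.stalk_injective_of_basis κ x fun V hx => ?_
    obtain ⟨U, hxU, hUV, g, hg⟩ := exists_chart D hD x hx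
    refine ⟨U.1, hUV, hxU, (injective_iff_map_eq_zero _).2 fun m hm => ?_⟩
    obtain ⟨w, hw', hw⟩ := rel_app κ hκ U g hg m
    haveI := Λ.mono
    rw [show (κ.val.app (op U.1)).hom m = 0 from hm, smul_zero] at hw
    have hw0 : w = 0 := app_injective Λ.ι U.1 (hw.symm.trans (map_zero _).symm)
    rw [hw0, map_zero] at hw'
    haveI := Λ'.mono
    obtain ⟨hreg', dl', hdl', hspan, -, -⟩ := Λ'.rule U (g ∘ i.succAbove) fun j => hg _
    obtain ⟨u, a, rfl⟩ := exists_decomp Λ' dl' hspan m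
    let η : Fin r → Ω'.val.obj (op U.1) := fun j => d.app U.1 (g (i.succAbove j))
    have hv : ∃ v, (∏ j, g (i.succAbove j)) • ((Λ'.ι.val.app (op U.1)).hom u + ∑ j, a j • dl' j) =
        (Λ'.ι.val.app (op U.1)).hom v := by
      refine ⟨(∏ j, g (i.succAbove j)) • u + ∑ j, a j • ((∏ k ∈ Finset.univ.erase j, g (i.succAbove k)) • η j), ?_⟩
      rw [smul_add, map_add, app_smul, Finset.smul_sum, map_sum]
      congr 1
      refine Finset.sum_congr rfl fun j _ => ?_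
      rw [smul_comm, app_smul, app_smul, show (Λ'.ι.val.app (op U.1)).hom (η j) = _ from (hdl' j).symm, ← mul_smul _ ((g ∘ i.succAbove) j), Function.comp_apply]
      congr 2
      rw [mul_comm, Finset.mul_prod_erase _ (fun k => g (i.succAbove k)) (Finset.mem_univ _)]
    obtain ⟨v, hv⟩ := hv
    have hgv : g i • v = 0 := app_injective Λ'.ι U.1 (by
      rw [app_smul, ← hv, smul_smul, ← Fin.prod_univ_succAbove _ i, hw', map_zero])
    have hv0 : v = 0 := app_injective Λ.ι U.1 ((regular U g hg _ (by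
      rw [Fin.prod_univ_succAbove _ i, mul_comm, mul_smul, ← app_smul, hgv, map_zero, smul_zero])).trans
        (map_zero _).symm)
    exact hreg' _ (by rw [show ∏ j, (g ∘ i.succAbove) j = ∏ j, g (i.succAbove j) from rfl, hv, hv0, map_zero])
  haveI : Epi (Λ.res i) := by
    rw [epi_iff_stalk_surjective]
    intro x c
    obtain ⟨y, hy, -⟩ := res_lift hD Λ x i c
    exact ⟨y, hy⟩
  refine ShortComplex.ShortExact.mk' ?_ inferInstance inferInstance
  rw [exact_iff_stalk]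
  intro x
  rw [ShortComplex.ab_exact_iff]
  intro y hy
  obtain ⟨V, hxV, m, rfl⟩ := Λ.L.presheaf.exists_germ_eq y
  obtain ⟨W, hWV, hxW, hres⟩ := exists_zero_nhd V x hxV ((Λ.res i).app V m)
    ((stalkFunctor_map_germ x (Λ.res i) hxV m).symm.trans hy)
  obtain ⟨U, hxU, hUW, g, hg⟩ := exists_chart D hD x hxW
  obtain ⟨hreg, dl, hdl, hspan, h1, h2⟩ := Λ.rule U g hg
  obtain ⟨-, dl', hdl', -, -, -⟩ := Λ'.rule U (g ∘ i.succAbove) fun j => hg _
  have hUV := hUW.trans hWV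
  let m₁ : Λ.L.val.obj (op U.1) := Λ.L.presheaf.map (homOfLE hUV).op m
  have hm₁ : ((Λ.res i).val.app (op U.1)).hom m₁ = 0 := by
    change (Λ.res i).app U.1 _ = 0
    rw [ClSub.Basis.map_app]
    have := congrArg ((ClSub.quotMod (D i)).presheaf.map (homOfLE hUW).op) hres
    rw [map_zero, ← ConcreteCategory.comp_apply, ← Functor.map_comp, ← op_comp] at this
    exact this
  obtain ⟨w, a, hwa⟩ := exists_decomp Λ dl hspan m₁
  rw [hwa, res_sum Λ w a dl h1 h2 i] at hm₁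
  obtain ⟨b, hb⟩ := Ideal.mem_span_singleton'.1 (hg i ▸ quot_smul_one_eq_zero (D i) U hm₁)
  let η : Ω'.val.obj (op U.1) := d.app U.1 (g i)
  let m' : Λ'.L.val.obj (op U.1) :=
    (Λ'.ι.val.app (op U.1)).hom (w + b • η) + ∑ j, a (i.succAbove j) • dl' j
  refine ⟨Λ'.L.presheaf.germ U.1 x hxU m', ?_⟩
  refine (stalkFunctor_map_germ x κ hxU m').trans ?_
  rw [← ClSub.Basis.germ_map hUV hxU m]
  refine congrArg _ ?_
  refine rel_unique hreg hreg (rel_app κ hκ U g hg m') ?_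
  change Rel Λ Λ' U.1 _ m' m₁
  have e : m₁ = (Λ.ι.val.app (op U.1)).hom (w + b • η) + ∑ j, a (i.succAbove j) • dl (i.succAbove j) := by
    rw [hwa, Fin.sum_univ_succAbove _ i, map_add, app_smul,
      show (Λ.ι.val.app (op U.1)).hom η = g i • dl i from (hdl i).symm, smul_smul, hb]
    abel
  rw [e]
  exact rel_gen g dl dl' hdl hdl' _ _

end Groth.Agent.Lib.LogNCD37.SubLog
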